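import Cfsg.Agent.Lib.Recog.HeldTri.Control
import Cfsg.Agent.Lib.ZStar.Main
import Mathlib.GroupTheory.Sylow

/-!
# A pure clique in the centraliser of an involution (owner: helper22, argument of helper25)

`A` consists of the identity and the conjugates of `t` in `C(t)` and is abelian.  If an involution `v` of `C(t)`
outside `A` has `[A, v] = ⟨t⟩`, then `t` is isolated in the centralisers of all involutions `va`, and no simple
group has such a configuration.
-/

set_option autoImplicit false
set_option linter.style.haveILetI false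

namespace CfsgLib.Recog.HeldTri

open Subgroup

variable {G : Type*} [Group G]

/-- An element inverted by an involution: conjugating the involution by powers. -/
theorem isConj_mul_sq_pow {s r : G} (hs : s * s = 1) (h : s * r * s = r⁻¹) (k : ℕ) :
    IsConj s (s * (r ^ k * r ^ k)) := by
  have hinv : SemiconjBy s r r⁻¹ := by
    show s * r = r⁻¹ * s
    rw [← h, mul_assoc, hs, mul_one]
  refine isConj_iff.2 ⟨(r ^ k)⁻¹, ?_⟩
  rw [inv_inv, ← inv_pow, ← mul_assoc, (hinv.pow_right k).eq]

/-- Two non-conjugate involutions commute with the involution `w` of the group they generate, and one of their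
products with `w` is conjugate to the first. -/
theorem exists_central_conj [Finite G] {a b : G} (ha : a * a = 1) (hb : b * b = 1) (hab : ¬ IsConj a b) :
    ∃ w : G, w * w = 1 ∧ w ≠ 1 ∧ Commute w a ∧ Commute w b ∧ (IsConj a (a * w) ∨ IsConj a (b * w)) := by
  obtain ⟨m, hm⟩ := Nat.not_odd_iff_even.1 fun ho => hab (isConj_of_odd ha hb ho)
  have hpos := orderOf_pos (a * b)
  have hai : a⁻¹ = a := inv_eq_of_mul_eq_one_right ha
  have hbi : b⁻¹ = b := inv_eq_of_mul_eq_one_right hb
  have inva : a * (a * b) * a = (a * b)⁻¹ := by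
    rw [← mul_assoc, ha, one_mul, _root_.mul_inv_rev, hai, hbi]
  have hpw : (a * b) ^ m * (a * b) ^ m = 1 := by rw [← pow_add, ← hm, pow_orderOf_eq_one]
  have hwa : Commute ((a * b) ^ m) a := by
    have h : SemiconjBy a ((a * b) ^ m) ((a * b)⁻¹ ^ m) := SemiconjBy.pow_right (by
      show a * (a * b) = (a * b)⁻¹ * a
      rw [← inva, mul_assoc _ a a, ha, mul_one]) m
    rw [inv_pow, inv_eq_of_mul_eq_one_right hpw] at h
    exact h.symm
  have hwb : Commute ((a * b) ^ m) b := by
    have h := hwa.mul_right (Commute.pow_self (a * b) m)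
    rwa [← mul_assoc, ha, one_mul] at h
  refine ⟨(a * b) ^ m, hpw, fun h1 => ?_, hwa, hwb, ?_⟩
  · have h := Nat.le_of_dvd (by omega) (orderOf_dvd_of_pow_eq_one h1)
    omega
  rcases Nat.even_or_odd m with ⟨k, rfl⟩ | ⟨k, rfl⟩
  · left
    rw [pow_add]
    exact isConj_mul_sq_pow ha inva k
  · right
    have e : b * (a * b) ^ (2 * k + 1) = b * a * b⁻¹ * ((a * b) ^ k * (a * b) ^ k) := by
      rw [show 2 * k + 1 = 1 + (k + k) by ring, pow_add, pow_add, pow_one, hbi]
      simp only [mul_assoc]
    rw [e]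
    refine (isConj_iff.2 ⟨b, rfl⟩ : IsConj a _).trans (isConj_mul_sq_pow ?_ ?_ k)
    · rw [show b * a * b⁻¹ * (b * a * b⁻¹) = b * (a * a) * b⁻¹ by group, ha, mul_one, mul_inv_cancel]
    · rw [hbi, _root_.mul_inv_rev, hbi, hai]
      calc b * a * b * (a * b) * (b * a * b) = b * a * b * (a * (b * b) * a) * b := by simp only [mul_assoc]
        _ = b * a := by rw [hb, mul_one, ha, mul_one, mul_assoc, hb, mul_one]

/-- A simple group with a non-trivial involution centraliser has no central involution. -/
theorem cent_ne_top_of_simple [IsSimpleGroup G] {t a b : G} (ht : t ≠ 1) (hab : a * b ≠ b * a) :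
    centralizer ({t} : Set G) ≠ ⊤ := fun h => by
  have ht' : t ∈ center G := mem_center_iff.2 fun g =>
    mem_centralizer_singleton_iff.1 (h ▸ mem_top g : g ∈ centralizer ({t} : Set G))
  rcases IsSimpleGroup.eq_bot_or_eq_top_of_normal (center G) inferInstance with e | e
  · exact ht (mem_bot.1 (e ▸ ht'))
  · exact hab ((mem_center_iff.1 (e ▸ mem_top a) b).symm)

variable [Finite G]

/-- An involution isolated among its conjugates in its centraliser is central modulo the odd core. -/
theorem commutator_mem_oddCore {u : G} (hu : orderOf u = 2)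
    (hiso : ∀ g : G, Commute (g * u * g⁻¹) u → g * u * g⁻¹ = u) (g : G) :
    u * g * u⁻¹ * g⁻¹ ∈ Cfsg.oddCore G := by
  haveI : Fact (Nat.Prime 2) := ⟨Nat.prime_two⟩
  obtain ⟨R, hR⟩ := (IsPGroup.of_card (p := 2) (n := 1)
    (G := zpowers (⟨u, mem_centralizer_singleton_iff.2 rfl⟩ : centralizer ({u} : Set G)))
    (by rw [Nat.card_zpowers, Subgroup.orderOf_mk, hu, pow_one])).exists_le_sylow
  obtain ⟨Q, hQ⟩ := (R.2.map (centralizer ({u} : Set G)).subtype).exists_le_sylow
  have huQ : u ∈ Q := hQ ⟨_, hR (mem_zpowers _), rfl⟩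
  suffices hle : (Q : Subgroup G) ≤ centralizer ({u} : Set G) from
    CfsgLib.ZStar.mem_oddCore_of_sylow Q hu huQ
      (fun k hk => hiso k (mem_centralizer_singleton_iff.1 (hle hk))) g
  haveI : Group.IsNilpotent (Q : Subgroup G) := Q.isPGroup'.isNilpotent
  by_contra hne
  have hlt : (centralizer ({u} : Set G)).subgroupOf (Q : Subgroup G) < ⊤ :=
    lt_top_iff_ne_top.2 fun h => hne (subgroupOf_eq_top.1 h)
  obtain ⟨q, hqN, hqC⟩ := SetLike.exists_of_lt (Group.normalizerCondition_of_isNilpotent _ hlt)
  have h := (mem_normalizer_iff.1 hqN ⟨u, huQ⟩).1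
    (mem_subgroupOf.2 (mem_centralizer_singleton_iff.2 rfl))
  rw [mem_subgroupOf, Subgroup.coe_mul, Subgroup.coe_mul, Subgroup.coe_inv, mem_centralizer_singleton_iff] at h
  exact hqC (mem_subgroupOf.2 (mem_centralizer_singleton_iff.2 (mul_inv_eq_iff_eq_mul.1 (hiso _ h))))

end CfsgLib.Recog.HeldTri
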