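import Cfsg.Agent.Lib.Recog.HeldTri.Pure

/-!
# The centraliser of the pure four-group (owner: helper25)

An element of `C(y, v)` outside `H` would make all involutions of the quotient by `⟨y, v⟩` that come from `H`
conjugate; and two commuting involutions of the quotient lie in `H` together.
-/

set_option autoImplicit false
set_option linter.unusedSectionVars false
set_option linter.style.haveILetI false

namespace CfsgLib.Recog.HeldTri

open Subgroup

variable {G : Type*} [Group G]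

/-- The centraliser of `y` and `v`. -/
abbrev pairCent (y v : G) : Subgroup G := centralizer ({y} : Set G) ⊓ centralizer ({v} : Set G)

/-- The four-group generated by `y` and `v`. -/
abbrev pairGroup (y v : G) : Subgroup G := closure ({y, v} : Set G)

theorem mem_pairCent {y v x : G} : x ∈ pairCent y v ↔ Commute x y ∧ Commute x v := by
  rw [mem_inf, mem_centralizer_singleton_iff, mem_centralizer_singleton_iff]
  exact Iff.rfl

theorem commute_pairGroup {y v x z : G} (hx : x ∈ pairCent y v) (hz : z ∈ pairGroup y v) : Commute x z :=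
  (mem_centralizer_singleton_iff.1 ((closure_le (centralizer ({x} : Set G))).2 (fun a ha => by
    rcases ha with rfl | rfl
    · exact mem_centralizer_singleton_iff.2 (mem_pairCent.1 hx).1.symm.eq
    · exact mem_centralizer_singleton_iff.2 (mem_pairCent.1 hx).2.symm.eq) hz) : z * x = x * z).symm

instance pairGroup_normal (y v : G) : ((pairGroup y v).subgroupOf (pairCent y v)).Normal :=
  ⟨fun z hz x => by
    rw [mem_subgroupOf] at hz ⊢
    rwa [Subgroup.coe_mul, Subgroup.coe_mul, Subgroup.coe_inv, (commute_pairGroup x.2 hz).eq,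
      mul_inv_cancel_right]⟩

/-- The hypotheses on the four-group. -/
structure FourHyp (H : Subgroup G) (t y v : G) (S : Subgroup G) : Prop where
  ctl : Ctl H t
  loc : Local t y v S
  sH : S ≤ H
  cos : ∀ s ∈ S, Commute s v → s ∉ pairGroup y v → s * s ∈ pairGroup y v →
    ∃ z ∈ pairGroup y v, IsConj (s * z) t

namespace FourHyp

variable [Finite G] {H : Subgroup G} {t y v : G} {S : Subgroup G} (hF : FourHyp H t y v S)
include hF

theorem v_comm : Commute v y := (hF.loc.mem_S.1 hF.loc.vS).2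

theorem pair_le_S : pairGroup y v ≤ S := (closure_le S).2 fun a ha => by
  rcases ha with rfl | rfl
  · exact hF.loc.y_mem
  · exact hF.loc.vS

theorem pair_le_H : pairGroup y v ≤ H := hF.pair_le_S.trans hF.sH

/-- Every involution coset of the four-group in its centraliser contains a conjugate of `t`. -/
theorem exists_conj {w : G} (hw : w ∈ pairCent y v) (hwW : w ∉ pairGroup y v)
    (hw2 : w * w ∈ pairGroup y v) : ∃ z ∈ pairGroup y v, IsConj (w * z) t := by
  haveI : Fact (Nat.Prime 2) := ⟨Nat.prime_two⟩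
  set X := centralizer ({y} : Set G)
  obtain ⟨P, hP⟩ := hF.loc.exists_sylow
  obtain ⟨W, hW⟩ : ∃ W : X, (W : G) = w := ⟨⟨w, (mem_inf.1 hw).1⟩, rfl⟩
  have hp : IsPGroup 2 (zpowers W) := by
    obtain ⟨k, hk⟩ := hF.loc.pS ⟨w * w, hF.pair_le_S hw2⟩
    have h : W ^ 2 ^ (k + 1) = 1 := Subtype.ext (by
      rw [Subgroup.coe_pow, hW, pow_succ', pow_mul, pow_two]
      exact congrArg Subtype.val hk)
    intro z
    refine ⟨k + 1, Subtype.ext ?_⟩
    obtain ⟨j, hj⟩ := mem_zpowers_iff.1 z.2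
    rw [Subgroup.coe_pow, ← hj, ← zpow_natCast, ← zpow_mul, mul_comm, zpow_mul, zpow_natCast, h,
      one_zpow, Subgroup.coe_one]
  obtain ⟨R, hR⟩ := hp.exists_le_sylow
  obtain ⟨g, rfl⟩ := MulAction.exists_smul_eq X P R
  have hm := hR (mem_zpowers W)
  rw [Sylow.coe_subgroup_smul] at hm
  obtain ⟨s, hs, hsW⟩ := hm
  rw [SetLike.mem_coe, hP, mem_subgroupOf] at hs
  simp only [MulDistribMulAction.toMonoidEnd_apply, MulDistribMulAction.toMonoidHom_apply,
    MulAut.smul_def, MulAut.conj_apply] at hsW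
  have hgs : (g : G) * s * (g : G)⁻¹ = w := by rw [← hW]; exact congrArg Subtype.val hsW
  have hgy : Commute (g : G) y := mem_centralizer_singleton_iff.1 g.2
  have hsy : Commute ((s : X) : G) y := mem_centralizer_singleton_iff.1 (s : X).2
  have hgW : ∀ z ∈ pairGroup y v, ∀ x : G, Commute x y → x * z * x⁻¹ ∈ pairGroup y v := by
    intro z hz x hx
    refine (closure_le ((pairGroup y v).comap (MulAut.conj x).toMonoidHom)).2 (fun a ha => ?_) hz
    rw [SetLike.mem_coe, mem_comap, MulEquiv.coe_toMonoidHom, MulAut.conj_apply]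
    rcases ha with rfl | rfl
    · rw [hx.eq, mul_inv_cancel_right]; exact subset_closure (Or.inl rfl)
    · rcases hF.loc.conj_v hx with h | h <;> rw [h]
      · exact subset_closure (Or.inr rfl)
      · exact mul_mem (subset_closure (Or.inr rfl)) (subset_closure (Or.inl rfl))
  have hback : ((s : X) : G) = (g : G)⁻¹ * w * g := by rw [← hgs]; group
  obtain ⟨z, hz, hzt⟩ := hF.cos _ hs (by
      have hwv : Commute w ((g : G) * v * (g : G)⁻¹) :=
        commute_pairGroup hw (hgW v (subset_closure (Or.inr rfl)) g hgy)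
      show ((s : X) : G) * v = v * (s : X)
      rw [hback]
      calc (g : G)⁻¹ * w * g * v = (g : G)⁻¹ * (w * ((g : G) * v * (g : G)⁻¹)) * g := by group
        _ = (g : G)⁻¹ * ((g : G) * v * (g : G)⁻¹ * w) * g := by rw [hwv.eq]
        _ = v * ((g : G)⁻¹ * w * g) := by group)
    (fun h => hwW (hgs ▸ hgW _ h g hgy))
    (by
      have := hgW _ hw2 (g : G)⁻¹ hgy.inv_left
      rw [hback]
      convert this using 1
      group)
  refine ⟨(g : G) * z * (g : G)⁻¹, hgW z hz g hgy, ?_⟩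
  rw [show w * ((g : G) * z * (g : G)⁻¹) = (g : G) * ((s : X) * z) * (g : G)⁻¹ by rw [← hgs]; group]
  exact (isConj_iff.2 ⟨(g : G), rfl⟩ : IsConj (((s : X) : G) * z) _).symm.trans hzt

/-- An element of `C(y, v)` mapping an involution coset of `H` into `H` lies in `H`. -/
theorem mem_of_conj {w x : G} (hw : w ∈ pairCent y v) (hx : x ∈ pairCent y v) (hwH : w ∈ H)
    (hwW : w ∉ pairGroup y v) (hw2 : w * w ∈ pairGroup y v) (hxw : x * w * x⁻¹ ∈ H) : x ∈ H := by
  obtain ⟨z, hz, hzt⟩ := hF.exists_conj hw hwW hw2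
  refine hF.ctl.mem (mul_mem hwH (hF.pair_le_H hz)) hzt ?_
  rw [← mul_assoc, mul_assoc _ z x⁻¹, (commute_pairGroup (inv_mem hx) hz).symm.eq, ← mul_assoc]
  exact mul_mem hxw (hF.pair_le_H hz)

/-- The quotient of `C(y, v)`. -/
theorem mk_mem_iff {a b : pairCent y v}
    (h : (QuotientGroup.mk a : _ ⧸ (pairGroup y v).subgroupOf (pairCent y v)) = QuotientGroup.mk b) :
    (a : G) ∈ H ↔ (b : G) ∈ H := by
  rw [QuotientGroup.eq, mem_subgroupOf, Subgroup.coe_mul, Subgroup.coe_inv] at h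
  have hH := hF.pair_le_H h
  constructor
  · intro ha; simpa using mul_mem ha hH
  · intro hb; simpa using mul_mem hb (inv_mem hH)

/-- Commuting involutions of the quotient lie in `H` together. -/
theorem mem_of_commute {a b : pairCent y v}
    (hb : orderOf (QuotientGroup.mk b : _ ⧸ (pairGroup y v).subgroupOf (pairCent y v)) = 2)
    (hc : Commute (QuotientGroup.mk a : _ ⧸ (pairGroup y v).subgroupOf (pairCent y v)) (QuotientGroup.mk b))
    (hbH : (b : G) ∈ H) : (a : G) ∈ H := by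
  have hbW : (b : G) ∉ pairGroup y v := fun h => by
    rw [(QuotientGroup.eq_one_iff b).2 (mem_subgroupOf.2 h), orderOf_one] at hb
    omega
  have hb2 : (b : G) * b ∈ pairGroup y v := by
    have h := pow_orderOf_eq_one (QuotientGroup.mk b : _ ⧸ (pairGroup y v).subgroupOf (pairCent y v))
    rwa [hb, pow_two, ← QuotientGroup.mk_mul, QuotientGroup.eq_one_iff, mem_subgroupOf] at h
  refine hF.mem_of_conj b.2 a.2 hbH hbW hb2 ?_
  have h : (QuotientGroup.mk (a * b * a⁻¹) : _ ⧸ (pairGroup y v).subgroupOf (pairCent y v)) =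
      QuotientGroup.mk b := by
    rw [QuotientGroup.mk_mul, QuotientGroup.mk_mul, hc.eq, QuotientGroup.mk_inv, mul_inv_cancel_right]
  exact (hF.mk_mem_iff h).2 hbH

/-- If some element of `C(y, v)` is outside `H`, all involutions of the quotient inside `H` are conjugate. -/
theorem conj_of_not_mem {g : pairCent y v} (hg : (g : G) ∉ H) {a b : pairCent y v} (haH : (a : G) ∈ H)
    (hbH : (b : G) ∈ H)
    (ha : orderOf (QuotientGroup.mk a : _ ⧸ (pairGroup y v).subgroupOf (pairCent y v)) = 2)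
    (hb : orderOf (QuotientGroup.mk b : _ ⧸ (pairGroup y v).subgroupOf (pairCent y v)) = 2) :
    IsConj (QuotientGroup.mk a : _ ⧸ (pairGroup y v).subgroupOf (pairCent y v)) (QuotientGroup.mk b) := by
  haveI : Finite (pairCent y v ⧸ (pairGroup y v).subgroupOf (pairCent y v)) := inferInstance
  obtain ⟨u, hu⟩ : ∃ u : pairCent y v, u = g * a * g⁻¹ := ⟨_, rfl⟩
  have hau : IsConj (QuotientGroup.mk a : _ ⧸ (pairGroup y v).subgroupOf (pairCent y v)) (QuotientGroup.mk u) :=
    isConj_iff.2 ⟨QuotientGroup.mk g, by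
      rw [hu, QuotientGroup.mk_mul, QuotientGroup.mk_mul, QuotientGroup.mk_inv]⟩
  have hu2 : orderOf (QuotientGroup.mk u : _ ⧸ (pairGroup y v).subgroupOf (pairCent y v)) = 2 := by
    obtain ⟨c, hc⟩ := isConj_iff.1 hau
    rw [← hc, CfsgLib.Signalizer.orderOf_conj, ha]
  have haW : (a : G) ∉ pairGroup y v := fun h => by
    rw [(QuotientGroup.eq_one_iff a).2 (mem_subgroupOf.2 h), orderOf_one] at ha
    omega
  have ha2 : (a : G) * a ∈ pairGroup y v := by
    have h := pow_orderOf_eq_one (QuotientGroup.mk a : _ ⧸ (pairGroup y v).subgroupOf (pairCent y v))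
    rwa [ha, pow_two, ← QuotientGroup.mk_mul, QuotientGroup.eq_one_iff, mem_subgroupOf] at h
  have huH : (u : G) ∉ H := fun h => hg (hF.mem_of_conj a.2 g.2 haH haW ha2 (by
    rwa [hu, Subgroup.coe_mul, Subgroup.coe_mul, Subgroup.coe_inv] at h))
  have sq : ∀ {q : pairCent y v ⧸ (pairGroup y v).subgroupOf (pairCent y v)}, orderOf q = 2 → q * q = 1 :=
    fun {q} hq => by rw [← pow_two, ← hq, pow_orderOf_eq_one]
  refine hau.trans (isConj_of_odd (sq hu2) (sq hb) ?_)
  by_contra ho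
  obtain ⟨w, hw2, hw1, hwu, hwb⟩ := exists_central (sq hu2) (sq hb) ho
  obtain ⟨w, rfl⟩ := QuotientGroup.mk_surjective w
  have hwo := orderOf_eq_prime (by rw [pow_two]; exact hw2) hw1
  exact huH (hF.mem_of_commute hwo hwu.symm (hF.mem_of_commute hb hwb hbH))

/-- Two cosets with different numbers of conjugates of `t` settle the four-group. -/
theorem pairCent_le_of_mixed {x₁ x₂ z₀ : G} (h₁ : x₁ ∈ S) (h₂ : x₂ ∈ S) (c₁ : Commute x₁ v)
    (c₂ : Commute x₂ v) (n₁ : x₁ ∉ pairGroup y v) (n₂ : x₂ ∉ pairGroup y v)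
    (q₁ : x₁ * x₁ ∈ pairGroup y v) (q₂ : x₂ * x₂ ∈ pairGroup y v) (hz₀ : z₀ ∈ pairGroup y v)
    (hz₀1 : z₀ ≠ 1) (T₁ : IsConj x₁ t) (T₁' : IsConj (x₁ * z₀) t)
    (T₂ : ∀ z ∈ pairGroup y v, z ≠ 1 → ¬ IsConj (x₂ * z) t) : pairCent y v ≤ H := by
  intro g hg
  by_contra hgH
  obtain ⟨a, ha⟩ : ∃ a : pairCent y v, (a : G) = x₁ :=
    ⟨⟨x₁, mem_pairCent.2 ⟨(hF.loc.mem_S.1 h₁).2, c₁⟩⟩, rfl⟩
  obtain ⟨b, hb⟩ : ∃ b : pairCent y v, (b : G) = x₂ :=
    ⟨⟨x₂, mem_pairCent.2 ⟨(hF.loc.mem_S.1 h₂).2, c₂⟩⟩, rfl⟩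
  have ord : ∀ {c : pairCent y v}, (c : G) ∉ pairGroup y v → (c : G) * c ∈ pairGroup y v →
      orderOf (QuotientGroup.mk c : _ ⧸ (pairGroup y v).subgroupOf (pairCent y v)) = 2 := fun {c} hn hq =>
    orderOf_eq_prime (by
      rw [pow_two, ← QuotientGroup.mk_mul, QuotientGroup.eq_one_iff, mem_subgroupOf, Subgroup.coe_mul]
      exact hq) fun h => hn (mem_subgroupOf.1 ((QuotientGroup.eq_one_iff c).1 h))
  obtain ⟨k, hk⟩ := isConj_iff.1 (hF.conj_of_not_mem (g := ⟨g, hg⟩) hgH (ha ▸ hF.sH h₁) (hb ▸ hF.sH h₂)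
    (ord (ha ▸ n₁) (ha ▸ q₁)) (ord (hb ▸ n₂) (hb ▸ q₂)))
  obtain ⟨k, rfl⟩ := QuotientGroup.mk_surjective k
  rw [← QuotientGroup.mk_inv, ← QuotientGroup.mk_mul, ← QuotientGroup.mk_mul, eq_comm, QuotientGroup.eq,
    mem_subgroupOf] at hk
  simp only [Subgroup.coe_mul, Subgroup.coe_inv, ha, hb] at hk
  obtain ⟨z, hz, hz'⟩ : ∃ z ∈ pairGroup y v, (k : G) * x₁ * (k : G)⁻¹ = x₂ * z :=
    ⟨_, hk, (mul_inv_cancel_left _ _).symm⟩
  have e₁ : IsConj (x₂ * z) t := hz' ▸ ((isConj_iff.2 ⟨(k : G), rfl⟩ : IsConj x₁ _).symm.trans T₁)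
  have hz1 : z = 1 := by by_contra h; exact T₂ z hz h e₁
  have e₂ : IsConj (x₂ * z₀) t := by
    have he : (k : G) * (x₁ * z₀) * (k : G)⁻¹ = x₂ * z₀ := by
      calc (k : G) * (x₁ * z₀) * (k : G)⁻¹ = (k : G) * x₁ * (k : G)⁻¹ * ((k : G) * z₀ * (k : G)⁻¹) := by group
        _ = x₂ * z₀ := by rw [hz', hz1, mul_one, (commute_pairGroup k.2 hz₀).eq, mul_inv_cancel_right]
    exact he ▸ ((isConj_iff.2 ⟨(k : G), rfl⟩ : IsConj (x₁ * z₀) _).symm.trans T₁')
  exact T₂ z₀ hz₀ hz₀1 e₂

/-- A quotient with connected commuting graph of involutions settles the four-group. -/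
theorem pairCent_le_of_connected {x₀ : pairCent y v} (hx₀ : (x₀ : G) ∈ H)
    (ho : orderOf (QuotientGroup.mk x₀ : _ ⧸ (pairGroup y v).subgroupOf (pairCent y v)) = 2)
    (hconn : ∀ q : pairCent y v ⧸ (pairGroup y v).subgroupOf (pairCent y v), orderOf q = 2 →
      Relation.ReflTransGen (fun p r => orderOf p = 2 ∧ orderOf r = 2 ∧ Commute p r)
        (QuotientGroup.mk x₀) q) :
    pairCent y v ≤ H := by
  have hall : ∀ q : pairCent y v ⧸ (pairGroup y v).subgroupOf (pairCent y v),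
      Relation.ReflTransGen (fun p r => orderOf p = 2 ∧ orderOf r = 2 ∧ Commute p r)
        (QuotientGroup.mk x₀) q → ∀ a : pairCent y v, QuotientGroup.mk a = q → (a : G) ∈ H := by
    intro q hq
    induction hq with
    | refl => intro a ha; exact (hF.mk_mem_iff ha).2 hx₀
    | @tail p r _ hpr ih =>
      intro a ha
      obtain ⟨b, rfl⟩ := QuotientGroup.mk_surjective p
      exact hF.mem_of_commute hpr.1 (ha ▸ hpr.2.2.symm) (ih b rfl)
  intro g hg
  by_contra hgH
  have hW : (x₀ : G) ∉ pairGroup y v := fun h => by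
    rw [(QuotientGroup.eq_one_iff x₀).2 (mem_subgroupOf.2 h), orderOf_one] at ho
    omega
  have h2 : (x₀ : G) * x₀ ∈ pairGroup y v := by
    have h := pow_orderOf_eq_one (QuotientGroup.mk x₀ : _ ⧸ (pairGroup y v).subgroupOf (pairCent y v))
    rwa [ho, pow_two, ← QuotientGroup.mk_mul, QuotientGroup.eq_one_iff, mem_subgroupOf] at h
  obtain ⟨u, hu⟩ : ∃ u : pairCent y v, u = ⟨g, hg⟩ * x₀ * (⟨g, hg⟩ : pairCent y v)⁻¹ := ⟨_, rfl⟩
  refine hgH (hF.mem_of_conj x₀.2 hg hx₀ hW h2 ?_)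
  have := hall _ (hconn (QuotientGroup.mk u) (by
    rw [hu, QuotientGroup.mk_mul, QuotientGroup.mk_mul, QuotientGroup.mk_inv,
      CfsgLib.Signalizer.orderOf_conj, ho])) u rfl
  rwa [hu, Subgroup.coe_mul, Subgroup.coe_mul, Subgroup.coe_inv] at this

end FourHyp

end CfsgLib.Recog.HeldTri
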