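import Cfsg.Agent.Lib.Recog.SporHe.AutMain
import Mathlib.GroupTheory.Sylow

set_option autoImplicit false
set_option maxRecDepth 20000

/-!
The two classes of involutions of the presented Held group (owner: helper22).
-/

namespace CfsgLib.Recog.HeldTri.He

open Cfsg
open CfsgLib.Recog.SporHe CfsgLib.Recog.SporHe.Aut CfsgLib.Recog.SporHe.Mult CfsgLib.Recog.SporHe.Centralizer
  CfsgLib.Recog.SporHe.Base

/-- Every involution of He is conjugate to the first or to the fifth generator. -/
theorem classes_he {x : Spor.He} (hx : orderOf x = 2) :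
    ∃ g : Spor.He, g * x * g⁻¹ = el 0 ∨ g * x * g⁻¹ = el 3 := by
  haveI : Fact (Nat.Prime 2) := ⟨Nat.prime_two⟩
  obtain ⟨e, he⟩ := exists_ident
  obtain ⟨H, hH⟩ := Sylow.exists_subgroup_card_pow_prime 2 (G := cent) (n := 10)
    (by rw [card_cent]; norm_num)
  have hH' : Nat.card (H.map cent.subtype) = 2 ^ 10 := by
    rw [← hH]
    exact (Nat.card_congr (H.equivMapOfInjective _ cent.subtype_injective).toEquiv).symm
  obtain ⟨P, hP⟩ := (IsPGroup.of_card hH').exists_le_sylow
  have hPc : (P : Subgroup Spor.He) ≤ cent := by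
    obtain ⟨k, hk⟩ := IsPGroup.iff_card.1 P.2
    have hd : (2 : ℕ) ^ k ∣ 4030387200 := by
      rw [← hk, ← CfsgLib.Recog.SporHe.card_eq]; exact Subgroup.card_subgroup_dvd_card _
    have hk' : k ≤ 10 := by
      by_contra hh
      have h2 := (Nat.pow_dvd_pow 2 (by omega : 11 ≤ k)).trans hd
      norm_num at h2
    rw [← Subgroup.eq_of_le_of_card_ge hP (by rw [hH', hk]; exact Nat.pow_le_pow_right two_pos hk')]
    exact Subgroup.map_subtype_le H
  obtain ⟨R, hR⟩ := (IsPGroup.of_card (G := Subgroup.zpowers x) (p := 2) (n := 1)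
    (by rw [Nat.card_zpowers, hx, pow_one])).exists_le_sylow
  obtain ⟨g, hg⟩ := MulAction.exists_smul_eq Spor.He R P
  have hmem : g * x * g⁻¹ ∈ cent := hPc (by
    rw [← hg]; exact Subgroup.smul_mem_pointwise_smul x (MulAut.conj g) _ (hR (Subgroup.mem_zpowers x)))
  set z := g * x * g⁻¹ with hz
  have hzo : orderOf z = 2 := by
    rw [hz, ← hx]; exact orderOf_injective (MulAut.conj g).toMonoidHom (MulAut.conj g).injective x
  obtain ⟨h2, h1⟩ := orderOf_eq_prime_iff.1 hzo
  obtain ⟨u, hu⟩ : ∃ u : CT, u = e ⟨z, hmem⟩ := ⟨_, rfl⟩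
  have hback : back e u = z := by rw [back, hu, MulEquiv.symm_apply_apply]
  obtain ⟨i, hi, h, hh⟩ := exists_class u
    (by rw [hu, ← map_mul, show (⟨z, hmem⟩ : cent) * ⟨z, hmem⟩ = 1 from Subtype.ext ((pow_two z).symm.trans h2),
      map_one])
    (fun e1 => h1 (by rw [← hback, e1, back_one]))
  obtain ⟨w, hw⟩ := back_rep e he i hi
  have hb := congrArg (back e) hh
  rw [back_mul, back_mul, hback, ← hw] at hb
  refine ⟨(back e h * w)⁻¹ * g, ?_⟩
  have hconj : (back e h * w)⁻¹ * g * x * ((back e h * w)⁻¹ * g)⁻¹ = if kindOf i = 1 then el 3 else el 0 := by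
    calc (back e h * w)⁻¹ * g * x * ((back e h * w)⁻¹ * g)⁻¹
        = (back e h * w)⁻¹ * (z * back e h) * w := by rw [hz]; group
      _ = (back e h * w)⁻¹ * (back e h * (w * (if kindOf i = 1 then el 3 else el 0) * w⁻¹)) * w := by rw [hb]
      _ = _ := by group
  rw [hconj]
  split_ifs
  · exact Or.inr rfl
  · exact Or.inl rfl

end CfsgLib.Recog.HeldTri.He
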