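import Cfsg.Agent.Lib.Recog.Held.HeDefs

set_option autoImplicit false
set_option maxRecDepth 100000

/-!
Kernel checks for the local hypotheses around the pure four-group of the Held pattern (owner: helper22).
-/

namespace CfsgLib.Recog.HeldTri.He

open CfsgLib.Recog.Held CfsgLib.Recog.Held.He

/-- Coloured elements of `C(t) ∩ C(a)` centralise `v` and fix many elements of `C(t) ∩ C(a, v)`. -/
noncomputable def colOK : Bool :=
  allBelow 512 fun j => !colT (sa j) ||
    (comC (sa j) cv && !Nat.blt (countBelow 512 fun l => inT (sa l) && comC (sa l) (sa j)) 64)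

/-- `C(t) ∩ C(a)` moves `v` inside `{v, va}`. -/
noncomputable def svOK : Bool :=
  allBelow 512 fun j => comC (sa j) cv || Nat.beq (mulC 0 (sa j) cv) (mulC 0 cva (sa j))

/-- The only coloured central element is `t`. -/
noncomputable def centreTOK : Bool :=
  allBelow 512 fun j => !colT (sa j) || Nat.beq (sa j) 64 || !allBelow 512 (fun l => comC (sa j) (sa l))

/-- Every involution coset of the four-group has a coloured element. -/
noncomputable def cosColOK : Bool :=
  allBelow 512 fun j => !inT (sa j) || inV (sa j) || !inV (mulC 0 (sa j) (sa j)) ||
    vList.any fun w => colT (mulC 0 (sa j) w)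

/-- A coloured four-group in `C(t) ∩ C(a)` and facts on `f`. -/
noncomputable def fourTOK : Bool :=
  colT 2 && colT (mulC 0 2 64) && comC 2 64 && comC 2 ca && colT 64 &&
  Nat.beq (mulC 0 2 2) 0 && !inV (mulC 0 cf 64)

theorem col_ok : colOK = true := by decide +kernel

theorem sv_ok : svOK = true := by decide +kernel

theorem centreT_ok : centreTOK = true := by decide +kernel

theorem cosCol_ok : cosColOK = true := by decide +kernel

theorem fourT_ok : fourTOK = true := by decide +kernel

end CfsgLib.Recog.HeldTri.He
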