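import Cfsg.Agent.Lib.Recog.HeldTri.HeImage
import Cfsg.Agent.Lib.Recog.HeldTri.HeClasses
import Cfsg.Agent.Lib.Recog.HeldTri.HeLocalChecks
import Cfsg.Agent.Lib.Recog.HeldTri.Four
import Cfsg.Agent.Lib.Bender.Gen.Wiring
import Cfsg.Agent.Lib.Bender.Gen.Final

set_option autoImplicit false
set_option linter.style.haveILetI false

/-!
The presented Held group fills a simple group with the Held fusion pattern (owner: helper22).
-/

namespace CfsgLib.Recog.HeldTri.He

open Subgroup Cfsg
open CfsgLib.Recog.Held CfsgLib.Recog.Held.He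
open CfsgLib.Recog.HeldType (Rel)
open CfsgLib.Recog.SporHe (el)

universe u

variable {G : Type u} [Group G] {t : G} {K : Coord t 0} {φ : Spor.He →* G} {d : G}

theorem t_ord (S : Setting K) : t ≠ 1 ∧ t * t = 1 := by
  have B := basic K S
  exact ⟨B.t_notV.1, K.t_sq (by norm_num)⟩

/-- An involution of the image is conjugate to `t` or, inside the image, to `a`. -/
theorem image_classes (I : Image K φ d) {w : G} (hw : w ∈ φ.range) (hw2 : w * w = 1) (hw1 : w ≠ 1) :
    (∃ h ∈ φ.range, h * w * h⁻¹ = t) ∨ ∃ h ∈ φ.range, h * w * h⁻¹ = a K := by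
  obtain ⟨x, rfl⟩ := hw
  have hx : orderOf x = 2 := by
    rw [← orderOf_injective φ I.inj x]
    haveI : Fact (Nat.Prime 2) := ⟨Nat.prime_two⟩
    exact orderOf_eq_prime (by rw [pow_two]; exact hw2) hw1
  obtain ⟨g, hg | hg⟩ := classes_he hx
  · refine Or.inr ⟨φ g, ⟨g, rfl⟩, ?_⟩
    rw [← map_mul, ← map_inv, ← map_mul, hg, I.el0]
  · obtain ⟨h, hh, hd⟩ := I.conj_d
    refine Or.inl ⟨h * φ g, mul_mem hh ⟨g, rfl⟩, ?_⟩
    rw [show h * φ g * φ x * (h * φ g)⁻¹ = h * (φ g * φ x * (φ g)⁻¹) * h⁻¹ by group, ← map_mul, ← map_inv,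
      ← map_mul, hg, I.el3, hd]

theorem ctl [Finite G] (S : Setting K) (I : Image K φ d) : Ctl φ.range t := by
  refine ⟨I.cent_le, fun u hu hut => ?_⟩
  obtain ⟨t1, t2⟩ := t_ord S
  obtain ⟨k, hk⟩ := isConj_iff.1 hut.symm
  have hu2 : u * u = 1 := by
    rw [← hk, show k * t * k⁻¹ * (k * t * k⁻¹) = k * (t * t) * k⁻¹ by group, t2, mul_one, mul_inv_cancel]
  have hu1 : u ≠ 1 := fun e => t1 (by
    rw [e, mul_inv_eq_one] at hk; exact mul_left_cancel (hk.trans (mul_one k).symm))
  rcases image_classes I hu hu2 hu1 with h | ⟨h, hh, ha⟩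
  · exact h
  · exact absurd ((ha ▸ (isConj_iff.2 ⟨h, rfl⟩ : IsConj u _)).symm.trans hut) (basic K S).ya.2.2

variable [Finite G]

theorem pow_two_of_conj (S : Setting K) {u : G} (hua : Commute u (a K)) (hut : IsConj u t) :
    IsPGroup 2 (centralizer ({u} : Set G) ⊓ centralizer ({a K} : Set G) : Subgroup G) := by
  obtain ⟨k, hk⟩ := isConj_iff.1 hut
  have hat : Commute (k * a K * k⁻¹) t := by
    have h : Commute (k * a K * k⁻¹) (k * u * k⁻¹) := hua.symm.map (MulAut.conj k)
    rwa [hk] at h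
  refine IsPGroup.to_le ((y_cent S ((basic K S).ya.conj k) hat).comap_of_injective
    (MulAut.conj k).toMonoidHom (MulAut.conj k).injective) fun x hx => ?_
  obtain ⟨hxu, hxa⟩ := mem_inf.1 hx
  rw [mem_centralizer_singleton_iff] at hxu hxa
  rw [mem_comap, mem_inf, mem_centralizer_singleton_iff, mem_centralizer_singleton_iff,
    MulEquiv.coe_toMonoidHom, MulAut.conj_apply]
  have h1 : Commute (k * x * k⁻¹) (k * u * k⁻¹) := (show Commute x u from hxu).map (MulAut.conj k)
  rw [hk] at h1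
  exact ⟨h1, (show Commute x (a K) from hxa).map (MulAut.conj k)⟩

/-- An element of `C(a)` moving a coloured element of `C(t) ∩ C(a)` to `t` fixes the four-group. -/
theorem fus (S : Setting K) {u : G} (hu : Commute u t ∧ Commute u (a K)) (hut : IsConj u t) {k : G}
    (hka : Commute k (a K)) (hku : k * u * k⁻¹ = t) :
    k * v K * k⁻¹ = v K ∨ k * v K * k⁻¹ = v K * a K := by
  have B := basic K S
  obtain ⟨j, hj, rfl⟩ := exists_sa (K := K) hu.1 hu.2
  have hc := col_ok
  simp only [colOK, allBelow_spec, Bool.or_eq_true, Bool.and_eq_true, Bool.not_eq_true'] at hc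
  obtain ⟨hcv, hcnt⟩ := (hc j hj).resolve_left (by rw [(colT_iff S (sa_lt hj)).2 hut]; simp)
  have huv : Commute (K.el (sa j)) (v K) := (comC_iff (sa_lt hj) lt_cv).1 hcv
  set v' := k * v K * k⁻¹ with hv'
  have hv't : Commute v' t := by
    have h : Commute v' (k * K.el (sa j) * k⁻¹) := huv.symm.map (MulAut.conj k)
    rwa [hku] at h
  have hva : Commute (v K) (a K) := B.va.trans B.av.symm
  have hv'a : Commute v' (a K) := (hka.mul_left hva).mul_left hka.inv_left
  obtain ⟨i, hi, hie⟩ := exists_sa (K := K) hv't hv'a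
  have hca : k * (v K * a K) * k⁻¹ = v' * a K := by
    rw [hv', mul_assoc (k * v K), hka.inv_left.eq, ← mul_assoc, ← mul_assoc]
  have h1 : colY (sa i) = true := (colY_iff S (sa_lt hi)).2 (hie.symm ▸ B.yv.conj k)
  have h2 : colY (mulC 0 (sa i) ca) = true := (colY_iff S (mulC_lt (sa_lt hi) _)).2 (by
    rw [← K.el_mul _ (sa_lt hi) _ lt_ca, hie, show K.el ca = a K from rfl, ← hca]; exact B.yva.conj k)
  have h3 : 64 ≤ countBelow 512 fun l => comC (sa l) (sa i) := by
    refine le_trans (b := countBelow 512 fun l => inT (sa l) && comC (sa l) (sa j)) (by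
      by_contra h; rw [not_le, ← Nat.blt_eq] at h; rw [h] at hcnt; simp at hcnt) ?_
    rw [← card_sa (K := K) (fun x => Commute x (v K) ∧ Commute x (K.el (sa j))) _ (fun l hl => by
        rw [Bool.and_eq_true, inT_iff (K := K) hl, comC_iff (K := K) (sa_lt hl) (sa_lt hj)]),
      ← card_sa (K := K) (fun x => Commute x v') _ (fun l hl => by rw [comC_iff (K := K) (sa_lt hl) (sa_lt hi), hie])]
    refine Nat.card_le_card_of_injective
      (fun x : {x : G // (Commute x t ∧ Commute x (a K)) ∧ Commute x (v K) ∧ Commute x (K.el (sa j))} =>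
        (⟨k * x.1 * k⁻¹, ⟨?_, ?_⟩, ?_⟩ : {x : G // (Commute x t ∧ Commute x (a K)) ∧ Commute x v'}))
      fun x y e => ?_
    · have h : Commute (k * x.1 * k⁻¹) (k * K.el (sa j) * k⁻¹) := x.2.2.2.map (MulAut.conj k)
      rwa [hku] at h
    · exact (hka.mul_left x.2.1.2).mul_left hka.inv_left
    · exact x.2.2.1.map (MulAut.conj k)
    · exact Subtype.ext ((MulAut.conj k).injective (congrArg Subtype.val e))
  have hun := unique_ok
  simp only [uniqueOK, allBelow_spec, Bool.or_eq_true, Bool.not_eq_true', Nat.blt_eq] at hun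
  rcases hun i hi with e | e | e | e
  · rw [h1] at e; simp at e
  · rw [h2] at e; simp at e
  · have hm := el_inV B (sa_lt hi) e
    rw [hie] at hm
    rcases (mem_four B).1 hm with h | h | h | h
    · exact absurd h (B.yv.conj k).1
    · refine absurd ?_ B.yva.1
      have : v K = a K := by
        refine (MulAut.conj k).injective ?_
        show k * v K * k⁻¹ = k * a K * k⁻¹
        rw [hka.eq, mul_inv_cancel_right, ← hv', h]
      rw [this, B.ya.2.1]
    · exact Or.inl h
    · exact Or.inr h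
  · omega

theorem mem_cent_ta {x : G} :
    x ∈ centralizer ({t} : Set G) ⊓ centralizer ({a K} : Set G) ↔ Commute x t ∧ Commute x (a K) := by
  rw [mem_inf, mem_centralizer_singleton_iff, mem_centralizer_singleton_iff]; exact Iff.rfl

theorem local_facts (S : Setting K) :
    Local t (a K) (v K) (centralizer ({t} : Set G) ⊓ centralizer ({a K} : Set G)) := by
  have B := basic K S
  obtain ⟨t1, t2⟩ := t_ord S
  have hat : Commute (a K) t := K.mem _ lt_ca
  refine ⟨B.ya.2.1, rfl, hat.symm, y_cent S B.ya hat, fun u h1 h2 => pow_two_of_conj S h1 h2, ?_, ?_,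
    mem_cent_ta.2 ⟨K.mem _ lt_cv, B.va.trans B.av.symm⟩, B.yv.2.1, B.yv.1,
    fun e => B.yva.1 (by rw [e]; exact B.ya.2.1), ?_,
    ⟨a K * b K * (a K * b K), mem_cent_ta.2 ⟨(hat.mul_left B.bt).mul_left (hat.mul_left B.bt), (fourData S B).za⟩,
      mul_inv_eq_iff_eq_mul.2 B.zvva⟩,
    fun u hu hut k hka hku => fus S (mem_cent_ta.1 hu) hut hka hku⟩
  · intro u hu hut hall
    obtain ⟨j, hj, rfl⟩ := exists_sa (K := K) (mem_cent_ta.1 hu).1 (mem_cent_ta.1 hu).2
    have hc := centreT_ok
    simp only [centreTOK, allBelow_spec, Bool.or_eq_true, Bool.not_eq_true', Nat.beq_eq] at hc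
    rcases hc j hj with (e | e) | e
    · rw [(colT_iff S (sa_lt hj)).2 hut] at e; simp at e
    · rw [e, K.el_t]
    · refine absurd (allBelow_spec.2 fun l hl => ?_) (Bool.eq_false_iff.1 e)
      exact (comC_iff (sa_lt hj) (sa_lt hl)).2 (hall _ (mem_cent_ta.2 (sa_mem hl))).symm
  · have hc := fourT_ok
    simp only [fourTOK, Bool.and_eq_true, Nat.beq_eq] at hc
    obtain ⟨⟨⟨⟨⟨⟨c2, c264⟩, com⟩, coma⟩, -⟩, sq⟩, -⟩ := hc
    have h2 : (2 : ℕ) < 21504 := by norm_num
    have h64 : (64 : ℕ) < 21504 := by norm_num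
    have hct : Commute (K.el 2) t := by
      have h := (comC_iff (K := K) h2 h64).1 com
      rwa [K.el_t] at h
    refine ⟨K.el 2, mem_cent_ta.2 ⟨hct, (comC_iff h2 lt_ca).1 coma⟩, t, mem_cent_ta.2 ⟨Commute.refl t, hat.symm⟩,
      hct, (colT_iff S h2).1 c2, IsConj.refl t, ?_, ?_, t2⟩
    · have := (colT_iff S (mulC_lt h2 _)).1 c264
      rwa [← K.el_mul _ h2 _ h64, K.el_t] at this
    · rw [K.el_mul _ h2 _ h2, sq, K.el_zero (by norm_num)]
  · intro s hs
    obtain ⟨j, hj, rfl⟩ := exists_sa (K := K) (mem_cent_ta.1 hs).1 (mem_cent_ta.1 hs).2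
    have hc := sv_ok
    simp only [svOK, allBelow_spec, Bool.or_eq_true, Nat.beq_eq] at hc
    rcases hc j hj with e | e
    · exact Or.inl (mul_inv_eq_iff_eq_mul.2 ((comC_iff (sa_lt hj) lt_cv).1 e))
    · refine Or.inr (mul_inv_eq_iff_eq_mul.2 ?_)
      rw [B.va, v, K.el_mul _ (sa_lt hj) _ lt_cv, K.el_mul _ lt_cva _ (sa_lt hj), e]

theorem pairGroup_eq (B : Basic K) : pairGroup (a K) (v K) = fourGroup K B := by
  refine le_antisymm ((closure_le _).2 fun x hx => ?_) fun x hx => ?_
  · rcases hx with rfl | rfl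
    · exact a_mem B
    · exact v_mem B
  · rcases (mem_four B).1 hx with rfl | rfl | rfl | rfl
    · exact one_mem _
    · exact subset_closure (Or.inl rfl)
    · exact subset_closure (Or.inr rfl)
    · exact mul_mem (subset_closure (Or.inr rfl)) (subset_closure (Or.inl rfl))

theorem four_hyp (S : Setting K) (I : Image K φ d) :
    FourHyp φ.range t (a K) (v K) (centralizer ({t} : Set G) ⊓ centralizer ({a K} : Set G)) := by
  have B := basic K S
  refine ⟨ctl S I, local_facts S, fun x hx => I.cent_le (mem_inf.1 hx).1, fun s hs hsv hsW hs2 => ?_⟩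
  rw [pairGroup_eq B] at hsW hs2 ⊢
  obtain ⟨j, hj, rfl⟩ := exists_sa (K := K) (mem_cent_ta.1 hs).1 (mem_cent_ta.1 hs).2
  have hc := cosCol_ok
  simp only [cosColOK, allBelow_spec, Bool.or_eq_true, Bool.not_eq_true', List.any_eq_true] at hc
  rcases hc j hj with ((e | e) | e) | ⟨w, hw, e⟩
  · rw [(inT_iff hj).2 hsv] at e; simp at e
  · exact absurd (el_inV B (sa_lt hj) e) hsW
  · rw [K.el_mul _ (sa_lt hj) _ (sa_lt hj)] at hs2
    rw [inV_of_mem B (mulC_lt (sa_lt hj) _) hs2] at e
    simp at e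
  · simp only [vList, List.mem_cons, List.not_mem_nil, or_false] at hw
    have hwV : inV w = true := by rcases hw with rfl | rfl | rfl | rfl <;> rfl
    have hwl : w < 21504 := by rcases hw with rfl | rfl | rfl | rfl <;> exact Nat.le_of_ble_eq_true rfl
    refine ⟨K.el w, el_inV B hwl hwV, ?_⟩
    rw [K.el_mul _ (sa_lt hj) _ hwl]
    exact (colT_iff S (mulC_lt (sa_lt hj) _)).1 e

/-- The centraliser of the four-group lies in the image: otherwise its image modulo the four-group is a strongly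
embedded subgroup, solvable by Bender's theorem. -/
theorem pairCent_le (S : Setting K) (I : Image K φ d) : pairCent (a K) (v K) ≤ φ.range := by
  have B := basic K S
  have hF := four_hyp S I
  obtain ⟨t1, t2⟩ := t_ord S
  haveI : Fact (Nat.Prime 2) := ⟨Nat.prime_two⟩
  set C := pairCent (a K) (v K) with hCdef
  let π := QuotientGroup.mk' ((pairGroup (a K) (v K)).subgroupOf C)
  obtain ⟨M, hMdef⟩ : ∃ M : Subgroup (C ⧸ (pairGroup (a K) (v K)).subgroupOf C),
      M = (φ.range.subgroupOf C).map π := ⟨_, rfl⟩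
  have hM : ∀ x : C, π x ∈ M ↔ (x : G) ∈ φ.range := fun x => by
    rw [hMdef, mem_map]
    exact ⟨fun ⟨z, hz, e⟩ => (hF.mk_mem_iff e).1 hz, fun h => ⟨x, h, rfl⟩⟩
  by_cases htop : M = ⊤
  · exact fun x hx => (hM ⟨x, hx⟩).1 (htop ▸ mem_top _)
  exfalso
  have hmk : ∀ x : C, π x = 1 ↔ (x : G) ∈ fourGroup K B := fun x => by
    rw [← pairGroup_eq B]
    exact (QuotientGroup.eq_one_iff x).trans mem_subgroupOf
  have sq1 : ∀ {x : C}, (x : G) * x = 1 → π x * π x = 1 := fun {x} h => by
    rw [← map_mul, show x * x = 1 from Subtype.ext h, map_one]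
  have hnot : ∀ {x : G}, IsConj x t → x ∉ fourGroup K B := fun {x} hx hxV => by
    rcases (mem_four B).1 hxV with rfl | rfl | rfl | rfl
    · obtain ⟨k, hk⟩ := isConj_iff.1 hx; exact t1 (by rw [← hk]; group)
    · exact B.ya.2.2 hx
    · exact B.yv.2.2 hx
    · exact B.yva.2.2 hx
  let T : C := ⟨t, mem_pairCent.2 ⟨Commute.symm (K.mem _ lt_ca), Commute.symm (K.mem _ lt_cv)⟩⟩
  let F : C := ⟨f K, mem_pairCent.2 ⟨B.fa, B.fv⟩⟩
  let D : C := ⟨d, mem_pairCent.2 ⟨I.da, I.dv⟩⟩
  let E : C := ⟨g K, mem_pairCent.2 ⟨B.ga, B.gv⟩⟩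
  have hT1 : π T ≠ 1 := fun h => hnot (IsConj.refl t) ((hmk T).1 h)
  have hF1 : π F ≠ 1 := fun h => hnot B.tf ((hmk F).1 h)
  have hSE : IsStronglyEmbedded M := by
    refine ⟨htop, even_iff_two_dvd.2 ?_, fun q hq => Nat.not_even_iff_odd.1 fun he => ?_⟩
    · rw [← orderOf_eq_prime (show (⟨π T, (hM T).2 I.mem_t⟩ : M) ^ 2 = 1 from Subtype.ext (by
        rw [pow_two]; exact sq1 (x := T) t2)) (fun h => hT1 (congrArg Subtype.val h))]
      exact orderOf_dvd_natCard _
    obtain ⟨⟨z, hz⟩, hzo⟩ := exists_prime_orderOf_dvd_card' 2 (even_iff_two_dvd.1 he)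
    rw [Subgroup.orderOf_mk] at hzo
    obtain ⟨hzM, m, hmM, hme⟩ := hz
    obtain ⟨x, rfl⟩ := QuotientGroup.mk'_surjective _ q
    obtain ⟨w, rfl⟩ := QuotientGroup.mk'_surjective _ m
    have hwo : orderOf (π w) = 2 := by
      rw [← hzo, ← hme]; exact (orderOf_injective (MulAut.conj (π x)).toMonoidHom (MulAut.conj (π x)).injective _).symm
    have hwW : (w : G) ∉ pairGroup (a K) (v K) := fun h => by
      rw [(QuotientGroup.eq_one_iff w).2 (mem_subgroupOf.2 h) |> (fun e => show π w = 1 from e), orderOf_one] at hwo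
      omega
    have hw2 : (w : G) * w ∈ pairGroup (a K) (v K) := by
      have h := pow_orderOf_eq_one (π w)
      rw [hwo, pow_two, ← map_mul] at h
      exact mem_subgroupOf.1 ((QuotientGroup.eq_one_iff (w * w)).1 h)
    refine hq ((hM x).2 (hF.mem_of_conj w.2 x.2 ((hM w).1 hmM) hwW hw2 ?_))
    have : π (x * w * x⁻¹) ∈ M := by
      rw [map_mul, map_mul, map_inv]
      rw [MulEquiv.coe_toMonoidHom, MulAut.conj_apply] at hme
      rw [hme]; exact hzM
    exact (hM (x * w * x⁻¹)).1 this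
  have hrank : PRankAtLeast 2 2 (C ⧸ (pairGroup (a K) (v K)).subgroupOf C) := by
    have hc : π F * π T = π T * π F := by
      rw [← map_mul, ← map_mul]
      exact congrArg π (Subtype.ext (K.mem _ lt_cf))
    have hft : (π F) ≠ π T := fun h => by
      have h1 : π (F * T) = 1 := by rw [map_mul, h, sq1 (x := T) t2]
      have h2 := (hmk _).1 h1
      rw [Subgroup.coe_mul, show ((T : C) : G) = K.el 64 from K.el_t.symm, show ((F : C) : G) = K.el cf from rfl,
        K.el_mul _ lt_cf _ (by norm_num)] at h2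
      have hc := fourT_ok
      simp only [fourTOK, Bool.and_eq_true, Bool.not_eq_true'] at hc
      rw [inV_of_mem B (mulC_lt lt_cf _) h2] at hc
      simp at hc
    have hFF := sq1 (x := F) I.rel.hf
    have hTT := sq1 (x := T) t2
    let A : Subgroup (C ⧸ (pairGroup (a K) (v K)).subgroupOf C) :=
      { carrier := {1, π F, π T, π T * π F}
        one_mem' := by simp
        mul_mem' := fun {x y} hx hy => four_rules hFF hTT hc x hx y hy
        inv_mem' := fun {x} hx => by
          simp only [Set.mem_insert_iff, Set.mem_singleton_iff] at hx ⊢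
          rcases hx with rfl | rfl | rfl | rfl
          · simp
          · exact Or.inr (Or.inl (inv_eq_of_mul_eq_one_right hFF))
          · exact Or.inr (Or.inr (Or.inl (inv_eq_of_mul_eq_one_right hTT)))
          · refine Or.inr (Or.inr (Or.inr ?_))
            rw [_root_.mul_inv_rev, inv_eq_of_mul_eq_one_right hFF, inv_eq_of_mul_eq_one_right hTT, hc] }
    have hinv : ∀ z ∈ A, z * z = 1 := by
      intro z hz
      rcases hz with rfl | rfl | rfl | rfl
      · simp
      · exact hFF
      · exact hTT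
      · rw [show π T * π F * (π T * π F) = π T * (π F * π T) * π F by group, hc]
        rw [show π T * (π T * π F) * π F = (π T * π T) * (π F * π F) by group, hTT, hFF, one_mul]
    refine ⟨A, ⟨⟨fun x y => Subtype.ext ?_⟩⟩, fun z hz => by rw [pow_two]; exact hinv z hz, ?_⟩
    · exact CfsgLib.Recog.HeldType.le_centralizer_of_sq hinv x.2 y y.2 |>.symm
    · have e1 : π T * π F ≠ 1 := fun h => hft ((eq_inv_of_mul_eq_one_right h).trans (inv_eq_of_mul_eq_one_right hTT))
      have e2 : π T * π F ≠ π F := fun h => hT1 (mul_eq_right.1 h)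
      have e3 : π T * π F ≠ π T := fun h => hF1 (mul_eq_left.1 h)
      have hfin : Function.Injective (![(1 : _), π F, π T, π T * π F] : Fin 4 → _) := by
        intro i j hij
        fin_cases i <;> fin_cases j <;>
          simp_all [hT1, hF1, hft, e1, e2, e3, hT1.symm, hF1.symm, hft.symm, e1.symm, e2.symm, e3.symm]
      calc 2 ^ 2 = Nat.card (Fin 4) := by simp
        _ ≤ Nat.card A := Nat.card_le_card_of_injective
            (fun i => (⟨![(1 : _), π F, π T, π T * π F] i, by
              fin_cases i <;> simp [A]⟩ : A))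
            (fun i j h => hfin (congrArg Subtype.val h))
  have hsol := CfsgLib.Bender.solvable_of_benderGen CfsgLib.Bender.benderGen hrank (CfsgLib.Bender.spe_of_se hSE)
  let mk : ∀ x : C, (x : G) ∈ φ.range → M := fun x h => ⟨π x, (hM x).2 h⟩
  have hrel : Rel (mk D I.mem_d) (mk T I.mem_t) (mk F I.mem_f) (mk E I.mem_g) := by
    refine ⟨?_, ?_, ?_, ?_, ?_, ?_, ?_, ?_, fun h => hT1 (congrArg Subtype.val h)⟩
    all_goals apply Subtype.ext
    · exact sq1 (x := D) I.rel.hd
    · exact sq1 (x := T) t2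
    · exact sq1 (x := F) I.rel.hf
    · exact sq1 (x := E) I.rel.hg
    · show π T = π F * π E * (π F * π E)
      rw [← map_mul, ← map_mul]
      exact congrArg π (Subtype.ext B.fgt.symm)
    · show (π D * π T) ^ 3 = 1
      rw [← map_mul, ← map_pow, show (D * T) ^ 3 = 1 from Subtype.ext I.rel.hde, map_one]
    · show (π D * π F) ^ 3 = 1
      rw [← map_mul, ← map_pow, show (D * F) ^ 3 = 1 from Subtype.ext I.rel.hdf, map_one]
    · show (π D * π E) ^ 3 = 1
      rw [← map_mul, ← map_pow, show (D * E) ^ 3 = 1 from Subtype.ext I.rel.hdg, map_one]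
  exact hrel.not_solvable hsol

/-- A simple group with the Held fusion pattern has the order of the Held group and is He. -/
theorem isoHe_and_card [IsSimpleGroup G] (S : Setting K) : Spor.IsoHe G ∧ Nat.card G = 4030387200 := by
  obtain ⟨φ, d, I⟩ := exists_image S
  have B := basic K S
  obtain ⟨t1, t2⟩ := t_ord S
  have hya : centralizer ({a K} : Set G) ≤ φ.range :=
    (local_facts S).centralizer_le (fun x hx => I.cent_le (mem_inf.1 hx).1) (pairCent_le S I)
  have htop : φ.range = ⊤ := eq_top (ctl S I) t1 t2 B.ya.2.1 B.ya.2.2 hya fun w hw hw2 hw1 => by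
    rcases image_classes I hw hw2 hw1 with ⟨h, -, e⟩ | e
    · exact Or.inl (isConj_iff.2 ⟨h, e⟩)
    · exact Or.inr e
  have hb : Function.Bijective φ := ⟨I.inj, MonoidHom.range_eq_top.1 htop⟩
  refine ⟨⟨(MulEquiv.ofBijective φ hb).symm⟩, ?_⟩
  rw [← Nat.card_congr (MulEquiv.ofBijective φ hb).toEquiv, CfsgLib.Recog.SporHe.card_eq]

end CfsgLib.Recog.HeldTri.He
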