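import Cfsg.Agent.Lib.Recog.Held.ColourCheck
import Cfsg.Agent.Lib.Recog.Held.HeDefs

set_option autoImplicit false
set_option maxRecDepth 100000

/-!
Kernel checks for the Sylow subgroup, the possible fusion patterns and the two pure cliques (owner: helper22).
-/

namespace CfsgLib.Recog.HeldTri.Start

open CfsgLib.Recog.Held CfsgLib.Recog.Held.He

/-- Only `t` has a centraliser of two-part `2^10` in `C(t)`. -/
noncomputable def sylowOK : Bool :=
  allBelow (ncls 0) fun k => Nat.beq k (ktc 0) || !Nat.beq (hsz 0 k % 1024) 0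

/-- The reversible patterns other than `t` alone. -/
noncomputable def startMaskOK (m : ℕ) : Bool :=
  !bitOn m (ktc 0) || (Nat.beq m (2 ^ ktc 0) || (!reversible 0 m || [9, 10, 27, 59, 91, 123].any (Nat.beq m)))

/-- The identity and the coloured elements of pattern `9`. -/
def list9 : List ℕ := [0, 1, 2, 3, 4, 5, 6, 7, 64, 65, 66, 67, 68, 69, 70, 71]

/-- The identity and the coloured elements of pattern `10`. -/
def list10 : List ℕ := [0, 8, 16, 24, 32, 40, 48, 56, 64, 72, 80, 88, 96, 104, 112, 120]

/-- `[x, v]` for the element `v` of class two. -/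
noncomputable def comm10 (x : ℕ) : ℕ := mulC 0 (mulC 0 (mulC 0 10 x) 10) x

/-- The list is the coloured clique of the pattern. -/
noncomputable def listOK (m : ℕ) (L : List ℕ) : Bool :=
  allBelow 2816 (fun s => !(Nat.blt 0 (Nat.land (field 19 (clsData 0) s) 15) &&
      bitOn m (Nat.land (field 19 (clsData 0) s) 15 - 1)) || L.any (Nat.beq (slotX s))) &&
  L.all (fun x => Nat.blt x 21504 && (Nat.beq x 0 || (Nat.blt 0 (clsOf 0 x) && bitOn m (clsOf 0 x - 1)))) &&
  L.all (fun x => L.all fun y => comC x y && L.any (Nat.beq (mulC 0 x y)))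

/-- The element `10` acts on the clique as a transvection with centre `t`. -/
noncomputable def actOK (L : List ℕ) : Bool :=
  Nat.beq (rep 0 2) 10 && Nat.beq (hsz 0 2) 512 && Nat.beq (mulC 0 10 10) 0 && !L.any (Nat.beq 10) &&
    L.all (fun x => Nat.beq (comm10 x) 0 || Nat.beq (comm10 x) 64) &&
    L.any (fun x => Nat.beq (comm10 x) 64) &&
    L.any (fun x => !Nat.beq x 0 && !Nat.beq x 64 && comC x 10)

theorem sylow_ok : sylowOK = true := by decide +kernel

theorem mask_ok0 : allBelow 256 startMaskOK = true := by decide +kernel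

theorem list9_ok : (listOK 9 list9 && actOK list9) = true := by decide +kernel

theorem list10_ok : (listOK 10 list10 && actOK list10) = true := by decide +kernel

theorem ncls_zero : ncls 0 = 8 ∧ ktc 0 = 3 := by
  have h : (Nat.beq (ncls 0) 8 && Nat.beq (ktc 0) 3) = true := by decide +kernel
  simpa [Nat.beq_eq] using h

end CfsgLib.Recog.HeldTri.Start
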