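import Cfsg.Agent.Lib.Recog.HeldTri.Clique
import Cfsg.Agent.Lib.Recog.HeldTri.StartChecks
import Cfsg.Agent.Lib.Recog.Held.Colour
import Cfsg.Agent.Lib.Recog.Held.HeBase

/-!
# The start of the trichotomy (owner: helper22)

A Sylow subgroup of `C(t)` is one of the group, and four fusion patterns remain.
-/

set_option autoImplicit false
set_option linter.style.haveILetI false

namespace CfsgLib.Recog.HeldTri

open Subgroup
open CfsgLib.Recog.Held CfsgLib.Recog.Held.He
open Start

variable {G : Type*} [Group G] [Finite G] {t : G} (K : Coord t 0)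

include K in
/-- The centraliser of `t` contains a Sylow 2-subgroup. -/
theorem sylow_in_cent : ∃ P : Sylow 2 G, (P : Subgroup G) ≤ centralizer {t} := by
  haveI : Fact (Nat.Prime 2) := ⟨Nat.prime_two⟩
  have t2 : t * t = 1 := K.t_sq (by norm_num)
  have t1 : t ≠ 1 := K.ne_one_t (by norm_num)
  have hC : Nat.card (centralizer ({t} : Set G)) = 21504 := by
    rw [← K.card_cent]
    exact Nat.card_congr (Equiv.subtypeEquivRight fun x => mem_centralizer_singleton_iff)
  obtain ⟨P₀, hP₀⟩ : ∃ H : Subgroup (centralizer ({t} : Set G)), Nat.card H = 2 ^ 10 :=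
    Sylow.exists_subgroup_card_pow_prime 2 (n := 10) (by rw [hC]; norm_num)
  let T := P₀.map (centralizer ({t} : Set G)).subtype
  have hT : Nat.card T = 2 ^ 10 := by
    rw [← hP₀]
    exact (Nat.card_congr (P₀.equivMapOfInjective _ (centralizer ({t} : Set G)).subtype_injective).toEquiv).symm
  obtain ⟨P, hP⟩ := (IsPGroup.of_card hT).exists_le_sylow
  refine ⟨P, ?_⟩
  -- an involution centralising `T` is `t`
  have huniq : ∀ u : G, u ≠ 1 → u * u = 1 → Commute u t → (∀ x ∈ T, Commute x u) → u = t := by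
    intro u u1 u2 hut hcen
    obtain ⟨x, hx, hxu⟩ := K.surj u hut.eq
    have hc := (K.sq_iff (by norm_num) hx).1 (hxu.symm ▸ ⟨u1, u2⟩)
    obtain ⟨h, hh1, hh2⟩ := K.class_conj (by norm_num) hx hc
    have hb : clsOf 0 x - 1 < ncls 0 := by have := clsOf_lt (i := 0) (by norm_num) hx; omega
    have hs := sylow_ok
    simp only [sylowOK, allBelow_spec, Bool.or_eq_true, Nat.beq_eq, Bool.not_eq_true'] at hs
    rcases hs _ hb with e | e
    · rw [e, K.rep_kt (by norm_num), hh1, mul_inv_cancel_right] at hh2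
      rw [← hxu, ← hh2]
    by_cases hk : clsOf 0 x - 1 = ktc 0
    · rw [hk, K.rep_kt (by norm_num), hh1, mul_inv_cancel_right] at hh2
      rw [← hxu, ← hh2]
    exfalso
    have hle : Nat.card T ∣ hsz 0 (clsOf 0 x - 1) := by
      rw [← (K.root_count (by norm_num) hb hk).2.2]
      let S : Subgroup G := centralizer {t} ⊓ centralizer {K.el (rep 0 (clsOf 0 x - 1))}
      have hS : Nat.card S = Nat.card {g : G // g * t = t * g ∧
          g * K.el (rep 0 (clsOf 0 x - 1)) = K.el (rep 0 (clsOf 0 x - 1)) * g} :=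
        Nat.card_congr (Equiv.subtypeEquivRight fun g => by
          rw [mem_inf, mem_centralizer_singleton_iff, mem_centralizer_singleton_iff])
      rw [← hS, Nat.card_congr (T.equivMapOfInjective (MulAut.conj h⁻¹).toMonoidHom (MulAut.conj h⁻¹).injective).toEquiv]
      refine card_dvd_of_le ?_
      rintro _ ⟨y, hy, rfl⟩
      have hyt : Commute y t := mem_centralizer_singleton_iff.1 (map_subtype_le P₀ hy)
      refine mem_inf.2 ⟨mem_centralizer_singleton_iff.2 ?_, mem_centralizer_singleton_iff.2 ?_⟩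
      · exact ((show Commute h t from hh1).inv_left.mul_left hyt).mul_left (show Commute h t from hh1).inv_left.inv_left
      · have he : K.el (rep 0 (clsOf 0 x - 1)) = h⁻¹ * u * h⁻¹⁻¹ := by rw [← hxu, ← hh2]; group
        rw [he]
        exact ((hcen y hy).map (MulAut.conj h⁻¹)).eq
    rw [hT] at hle
    rw [Nat.mod_eq_zero_of_dvd (show 1024 ∣ _ from hle)] at e
    simp at e
  intro g hg
  haveI : Group.IsNilpotent (P : Subgroup G) := P.isPGroup'.isNilpotent
  by_contra hgt
  have hlt : T.subgroupOf (P : Subgroup G) < ⊤ :=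
    lt_top_iff_ne_top.2 fun h => hgt (map_subtype_le P₀ ((subgroupOf_eq_top.1 h) hg))
  obtain ⟨q, hqN, hqT⟩ := SetLike.exists_of_lt (Group.normalizerCondition_of_isNilpotent _ hlt)
  have hconj : ∀ y ∈ T, (q : G)⁻¹ * y * q ∈ T := fun y hy => by
    have h := (mem_normalizer_iff''.1 hqN ⟨y, hP hy⟩).1 (mem_subgroupOf.2 hy)
    rwa [mem_subgroupOf, Subgroup.coe_mul, Subgroup.coe_mul, Subgroup.coe_inv] at h
  have htT : t ∈ T := by
    have hZ : ∀ u : centralizer ({t} : Set G), (u : G) = t → u ∈ P₀ := by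
      intro u hu
      have hp : IsPGroup 2 (zpowers u) := IsPGroup.of_card (n := 1) (by
        rw [Nat.card_zpowers, pow_one, ← Subgroup.orderOf_coe, hu]
        exact orderOf_eq_prime (by rw [pow_two, t2]) t1)
      have hn : P₀ ≤ normalizer (zpowers u : Set (centralizer ({t} : Set G))) := fun y _ => by
        have hyu : y * u * y⁻¹ = u := mul_inv_eq_iff_eq_mul.2 (Subtype.ext (by
          rw [Subgroup.coe_mul, Subgroup.coe_mul, hu]; exact mem_centralizer_singleton_iff.1 y.2))
        rw [mem_normalizer_iff]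
        intro z
        constructor <;> intro hz <;> rw [mem_zpowers_iff] at hz ⊢ <;> obtain ⟨m, hm⟩ := hz
        · exact ⟨m, by rw [← hm, ← conj_zpow, hyu]⟩
        · refine ⟨m, (MulAut.conj y).injective ?_⟩
          show y * u ^ m * y⁻¹ = y * z * y⁻¹
          rw [← conj_zpow, hyu, hm]
      have hsup := IsPGroup.to_sup_of_normal_right' (IsPGroup.of_card hP₀) hp hn
      obtain ⟨k, hk⟩ := IsPGroup.iff_card.1 hsup
      have hk10 : k ≤ 10 := by
        have hd : 2 ^ k ∣ 21504 := hC ▸ hk ▸ card_subgroup_dvd_card _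
        by_contra hh
        have h2 := (Nat.pow_dvd_pow 2 (by omega : 11 ≤ k)).trans hd
        norm_num at h2
      have := eq_of_le_of_card_ge (le_sup_left (a := P₀) (b := zpowers u))
        (by rw [hk, hP₀]; exact Nat.pow_le_pow_right two_pos hk10)
      rw [this]
      exact mem_sup_right (mem_zpowers u)
    exact ⟨⟨t, mem_centralizer_singleton_iff.2 rfl⟩, hZ _ rfl, rfl⟩
  have hcomm : ∀ y ∈ T, Commute y t := fun y hy => mem_centralizer_singleton_iff.1 (map_subtype_le P₀ hy)
  have hmove : ∀ y ∈ T, Commute y ((q : G) * t * (q : G)⁻¹) := fun y hy => by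
    have h := (hcomm _ (hconj y hy)).map (MulAut.conj (q : G))
    simpa [mul_assoc] using h
  have hqt : (q : G) * t * (q : G)⁻¹ = t := huniq _
    (fun e => t1 (by simpa using e))
    (by rw [show (q : G) * t * (q : G)⁻¹ * ((q : G) * t * (q : G)⁻¹) = (q : G) * (t * t) * (q : G)⁻¹ by group,
      t2, mul_one, mul_inv_cancel])
    (hmove t htT).symm hmove
  -- `⟨T, q⟩` is a 2-subgroup of `C(t)`, so it is `T`
  have hle : T ≤ centralizer {t} ⊓ P := le_inf (map_subtype_le P₀) hP
  obtain ⟨k, hk⟩ := IsPGroup.iff_card.1 (P.2.to_le (inf_le_right (a := centralizer ({t} : Set G))))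
  have hd : 2 ^ k ∣ 21504 := hC ▸ hk ▸ card_dvd_of_le inf_le_left
  have hk10 : k ≤ 10 := by
    by_contra hh
    have h2 := (Nat.pow_dvd_pow 2 (by omega : 11 ≤ k)).trans hd
    norm_num at h2
  have heq := eq_of_le_of_card_ge hle (by rw [hk, hT]; exact Nat.pow_le_pow_right two_pos hk10)
  refine hqT (mem_subgroupOf.2 ?_)
  rw [heq]
  exact mem_inf.2 ⟨mem_centralizer_singleton_iff.2 (mul_inv_eq_iff_eq_mul.1 hqt), q.2⟩

/-- The identity and the conjugates of `t` in `C(t)` when they are the listed elements. -/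
theorem clique_of_list {L : List ℕ} (hL : (listOK K.mask L && actOK L) = true) :
    ∃ A : Subgroup G, Clique A t (K.el 10) ∧ ∀ x, x ∈ A ↔ ∃ c ∈ L, K.el c = x := by
  simp only [listOK, actOK, Bool.and_eq_true, List.all_eq_true, List.any_eq_true, allBelow_spec, Bool.or_eq_true,
    Bool.not_eq_true', Nat.beq_eq, Nat.blt_eq] at hL
  obtain ⟨⟨⟨hcov, hmem⟩, hclosed⟩, ⟨⟨⟨⟨⟨hrep, hsz'⟩, hsq⟩, hnot⟩, hact⟩, hact'⟩, hfour⟩ := hL
  have h10 : (10 : ℕ) < 21504 := by norm_num
  have h0 : (0 : ℕ) < 21504 := by norm_num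
  have one : K.el 0 = 1 := K.el_zero (by norm_num)
  have carrier : ∀ x : G, (x = 1 ∨ (Commute x t ∧ IsConj x t)) ↔ ∃ c ∈ L, K.el c = x := by
    intro x
    constructor
    · rintro (rfl | ⟨h1, h2⟩)
      · obtain ⟨c, hc, -⟩ := hact'
        obtain ⟨-, z, hz, e⟩ := hclosed c hc c hc
        refine ⟨z, hz, ?_⟩
        rw [← e, ← K.el_mul _ (hmem c hc).1 _ (hmem c hc).1]
        rcases (hmem c hc).2 with e0 | ⟨e0, -⟩
        · rw [e0, one, mul_one]
        · exact ((K.sq_iff (by norm_num) (hmem c hc).1).2 e0.ne').2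
      · obtain ⟨y, hy, rfl⟩ := K.surj x h1.eq
        obtain ⟨hc, hb⟩ := (K.mask_spec (by norm_num) hy).1 h2
        have hpos : 0 < field 8 slotData (y / 128) := Nat.pos_of_ne_zero fun e => hc (by
          rw [clsOf, entry_off e]; rfl)
        obtain ⟨hs, hse⟩ := slotOf_spec hy hpos
        have hcl : clsOf 0 y = Nat.land (field 19 (clsData 0) (slotOf y)) 15 := by
          rw [clsOf, entry_of_slot hpos]
        rcases hcov _ hs with e | ⟨z, hz, e⟩
        · rw [← hcl, Bool.and_eq_false_iff, hb] at e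
          rcases e with e | e
          · rw [show Nat.blt 0 (clsOf 0 y) = true by rw [Nat.blt_eq]; exact Nat.pos_of_ne_zero hc] at e; simp at e
          · simp at e
        · exact ⟨z, hz, by rw [← e, hse]⟩
    · rintro ⟨c, hc, rfl⟩
      obtain ⟨hc1, hc2⟩ := hmem c hc
      rcases hc2 with e | ⟨e, e'⟩
      · exact Or.inl (e ▸ one)
      · exact Or.inr ⟨K.mem c hc1, (K.mask_spec (by norm_num) hc1).2 ⟨e.ne', e'⟩⟩
  have hcommA : ∀ c ∈ L, ∀ d ∈ L, Commute (K.el c) (K.el d) := fun c hc d hd =>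
    (comC_iff (hmem c hc).1 (hmem d hd).1).1 (hclosed c hc d hd).1
  have mulA : ∀ x y : G, (∃ c ∈ L, K.el c = x) → (∃ c ∈ L, K.el c = y) → ∃ c ∈ L, K.el c = x * y := by
    rintro _ _ ⟨c, hc, rfl⟩ ⟨d, hd, rfl⟩
    obtain ⟨-, z, hz, e⟩ := hclosed c hc d hd
    exact ⟨z, hz, by rw [K.el_mul _ (hmem c hc).1 _ (hmem d hd).1, e]⟩
  let A : Subgroup G :=
    { carrier := {x | ∃ c ∈ L, K.el c = x}
      one_mem' := (carrier 1).1 (Or.inl rfl)
      mul_mem' := fun {x y} hx hy => mulA x y hx hy
      inv_mem' := fun {x} hx => by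
        rcases (carrier x).2 hx with rfl | ⟨-, h⟩
        · rwa [inv_one]
        · rwa [inv_eq_of_mul_eq_one_right (K.inv_of_conj_t (by norm_num) h).2] }
  have hc10 : ∀ c ∈ L, K.el 10 * K.el c * K.el 10 * K.el c = K.el (comm10 c) := fun c hc => by
    have h := (hmem c hc).1
    rw [comm10, K.el_mul _ h10 _ h, K.el_mul _ (mulC_lt h10 _) _ h10, K.el_mul _ (mulC_lt (mulC_lt h10 _) _) _ h]
  refine ⟨A, ⟨K.ne_one_t (by norm_num), K.t_sq (by norm_num), fun x => (carrier x).symm, ?_, K.mem _ h10, ?_, ?_, ?_, ?_,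
      ?_, ?_⟩, fun _ => Iff.rfl⟩
  · rintro _ ⟨c, hc, rfl⟩ _ ⟨d, hd, rfl⟩
    exact hcommA c hc d hd
  · rw [K.el_mul _ h10 _ h10, hsq, one]
  · rintro ⟨c, hc, e⟩
    have := K.el_inj _ (hmem c hc).1 _ h10 e
    subst this
    rw [List.any_eq_false] at hnot
    exact hnot _ hc (by rw [Nat.beq_eq])
  · rintro _ ⟨c, hc, rfl⟩
    rw [hc10 c hc]
    rcases hact c hc with e | e <;> rw [e]
    · exact Or.inl one
    · exact Or.inr K.el_t
  · obtain ⟨c, hc, e⟩ := hact'
    exact ⟨K.el c, ⟨c, hc, rfl⟩, by rw [hc10 c hc, e, K.el_t]⟩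
  · obtain ⟨c, hc, ⟨e0, e64⟩, ecom⟩ := hfour
    refine ⟨K.el c, ⟨c, hc, rfl⟩, (comC_iff (hmem c hc).1 h10).1 ecom, ?_, ?_⟩
    · rw [← one]; exact fun e => by rw [K.el_inj _ (hmem c hc).1 _ h0 e] at e0; simp at e0
    · intro e
      rw [K.el_inj _ (hmem c hc).1 64 (by norm_num) (e.trans K.el_t.symm)] at e64; simp at e64
  · intro n hnt hnv _
    have hcard : Nat.card (centralizer ({t} : Set G) ⊓ centralizer ({K.el 10} : Set G) : Subgroup G) = 512 := by
      rw [← hsz', ← (K.root_count (i := 0) (by norm_num) (k := 2) (by rw [ncls_zero.1]; norm_num)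
        (by rw [ncls_zero.2]; norm_num)).2.2, hrep]
      exact Nat.card_congr (Equiv.subtypeEquivRight fun g => by
        rw [mem_inf, mem_centralizer_singleton_iff, mem_centralizer_singleton_iff])
    obtain ⟨k, hk⟩ := (IsPGroup.of_card (p := 2) (n := 9) (hcard.trans (by norm_num)))
      ⟨n, mem_inf.2 ⟨mem_centralizer_singleton_iff.2 hnt.eq, mem_centralizer_singleton_iff.2 hnv.eq⟩⟩
    exact ⟨k, congrArg Subtype.val hk⟩

/-- A simple group has none of the pure cliques. -/
theorem false_of_list [IsSimpleGroup G] {L : List ℕ} (hL : (listOK K.mask L && actOK L) = true) : False :=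
  let ⟨_, hA, _⟩ := clique_of_list K hL
  hA.false_of_simple

/-- Four fusion patterns remain. -/
theorem survivors [IsSimpleGroup G] : K.mask ∈ goodMasks := by
  haveI : Fact (Nat.Prime 2) := ⟨Nat.prime_two⟩
  have hkt := (classes_spec (i := 0) (by norm_num)).1
  have hlt : K.mask < 256 := by have := K.mask_lt; rwa [ncls_zero.1] at this
  have h := allBelow_spec.1 mask_ok0 _ hlt
  simp only [startMaskOK, Bool.or_eq_true, Bool.not_eq_true', Nat.beq_eq, List.any_eq_true] at h
  rcases h with h | h | h | ⟨m, hm, e⟩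
  · rw [(K.mask_bit hkt).2 (by rw [K.rep_kt (by norm_num)])] at h; simp at h
  · exfalso
    have t1 : t ≠ 1 := K.ne_one_t (by norm_num)
    have t2 : t * t = 1 := K.t_sq (by norm_num)
    have hord : orderOf t = 2 := orderOf_eq_prime (by rw [pow_two, t2]) t1
    have hiso : ∀ g : G, Commute (g * t * g⁻¹) t → g * t * g⁻¹ = t := fun g hg => by
      obtain ⟨x, hx, hxe⟩ := K.surj _ hg.eq
      obtain ⟨hc, hb⟩ := (K.mask_spec (by norm_num) hx).1 (hxe ▸ (isConj_iff.2 ⟨g, rfl⟩ : IsConj t _).symm)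
      rw [bitOn_iff, h, Nat.testBit_two_pow, decide_eq_true_eq] at hb
      obtain ⟨k, hk1, hk2⟩ := K.class_conj (by norm_num) hx hc
      rw [← hb, K.rep_kt (by norm_num), hk1, mul_inv_cancel_right] at hk2
      rw [← hxe, ← hk2]
    rcases IsSimpleGroup.eq_bot_or_eq_top_of_normal (Cfsg.oddCore G) inferInstance with hb | hb
    · refine cent_ne_top_of_simple (a := K.el ca) (b := K.el cb) t1 (fun e => ?_)
        (eq_top_iff.2 fun g _ => ?_)
      · have hco := (comC_iff (K := K) lt_ca lt_cb).2 e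
        have hbo := basic_ok
        simp only [basicOK, Bool.and_eq_true, Bool.not_eq_true'] at hbo
        obtain ⟨-, -, -, -, -, -, -, -, -, -, -, -, -, -, -, -, -, -, -, -, -, -, -, -, -, -, -, -, -, -, -, -, hab, -⟩ := hbo
        rw [hco] at hab; simp at hab
      · have := commutator_mem_oddCore hord hiso g
        rw [hb, mem_bot, mul_inv_eq_one, mul_inv_eq_iff_eq_mul] at this
        exact mem_centralizer_singleton_iff.2 this.symm
    · have hodd := CfsgLib.ZStar.odd_card_oddCore G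
      rw [hb, Nat.card_congr (topEquiv (G := G)).toEquiv] at hodd
      exact Nat.not_even_iff_odd.2 hodd (even_iff_two_dvd.2 (hord ▸ orderOf_dvd_natCard t))
  · rw [K.reversible_mask (by norm_num)] at h; simp at h
  · simp only [List.mem_cons, List.not_mem_nil, or_false] at hm
    rcases hm with rfl | rfl | rfl | rfl | rfl | rfl
    · exact (false_of_list K (L := list9) (by rw [e]; exact list9_ok)).elim
    · exact (false_of_list K (L := list10) (by rw [e]; exact list10_ok)).elim
    all_goals rw [e]; decide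

end CfsgLib.Recog.HeldTri
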