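import Cfsg.Agent.Lib.Recog.HeldTri.Unique
import Cfsg.Agent.Lib.Recog.HeldTri.Start
import Cfsg.Agent.Lib.Recog.HeldTri.HeTop
import Cfsg.Agent.Lib.Recog.Held.SLCentral

/-!
# Groups with the involution centraliser of a transvection are determined by their order (owner: helper22)
-/

set_option autoImplicit false

namespace CfsgLib.Recog.HeldTri

open Subgroup
open CfsgLib.Recog.Held

/-- The three cases by order. -/
theorem order_cases {G : Type*} [Group G] [Finite G] [IsSimpleGroup G] {t : G} (K : Coord t 0) :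
    (K.mask = 27 ∧ Nat.card G = 9999360) ∨ ((K.mask = 59 ∨ K.mask = 91) ∧ Nat.card G = 244823040) ∨
      (K.mask = 123 ∧ Nat.card G = 4030387200) := by
  have hS := sylow_in_cent K
  have h := survivors K
  simp only [goodMasks, List.mem_cons, List.not_mem_nil, or_false] at h
  rcases h with h | h | h | h
  · exact Or.inl ⟨h, (order_27 hS h).1⟩
  · exact Or.inr (Or.inl ⟨Or.inl h, order_mathieu K hS (Or.inl h)⟩)
  · exact Or.inr (Or.inl ⟨Or.inr h, order_mathieu K hS (Or.inr h)⟩)
  · exact Or.inr (Or.inr ⟨h, (He.isoHe_and_card (K := K) ⟨h, hS⟩).2⟩)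

/-- Equal orders give isomorphic groups. -/
theorem iso_of_card {G H : Type*} [Group G] [Finite G] [IsSimpleGroup G] [Group H] [Finite H] [IsSimpleGroup H]
    {t : G} {t' : H} (K : Coord t 0) (K' : Coord t' 0) (hcard : Nat.card G = Nat.card H) :
    Nonempty (G ≃* H) := by
  rcases order_cases K with ⟨hm, h⟩ | ⟨hm, h⟩ | ⟨hm, h⟩ <;>
    rcases order_cases K' with ⟨hm', h'⟩ | ⟨hm', h'⟩ | ⟨hm', h'⟩
  · exact iso_27 (sylow_in_cent K) hm (sylow_in_cent K') hm'
  · omega
  · omega
  · omega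
  · exact iso_mathieu K K' (sylow_in_cent K) hm (sylow_in_cent K') hm'
  · omega
  · omega
  · omega
  · obtain ⟨e⟩ := (He.isoHe_and_card (K := K) ⟨hm, sylow_in_cent K⟩).1
    obtain ⟨e'⟩ := (He.isoHe_and_card (K := K') ⟨hm', sylow_in_cent K'⟩).1
    exact ⟨e.trans e'.symm⟩

end CfsgLib.Recog.HeldTri
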