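import Cfsg.Agent.Lib.Recog.HeldTri.Isolated

/-!
# No pure clique with a transvection above it (owner: helper22, argument of helper25)
-/

set_option autoImplicit false
set_option linter.style.haveILetI false
set_option linter.unusedSectionVars false

namespace CfsgLib.Recog.HeldTri

open Subgroup

variable {G : Type*} [Group G]

/-- The hypotheses: `A` is the set of conjugates of `t` in `C(t)` with the identity, `[A, v] = ⟨t⟩`. -/
structure Clique (A : Subgroup G) (t v : G) : Prop where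
  t1 : t ≠ 1
  t2 : t * t = 1
  mem : ∀ x, x ∈ A ↔ x = 1 ∨ (Commute x t ∧ IsConj x t)
  comm : ∀ x ∈ A, ∀ y ∈ A, Commute x y
  vt : Commute v t
  v2 : v * v = 1
  vA : v ∉ A
  act : ∀ x ∈ A, v * x * v * x = 1 ∨ v * x * v * x = t
  act' : ∃ x ∈ A, v * x * v * x = t
  four : ∃ x ∈ A, Commute x v ∧ x ≠ 1 ∧ x ≠ t
  two : ∀ n, Commute n t → Commute n v → (∀ x ∈ A, Commute x v → Commute n x) → ∃ k, n ^ 2 ^ k = 1

namespace Clique

variable [Finite G] {A : Subgroup G} {t v : G} (hA : Clique A t v)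
include hA

theorem t_mem : t ∈ A := (hA.mem t).2 (Or.inr ⟨Commute.refl t, IsConj.refl t⟩)

theorem commute_t {x : G} (hx : x ∈ A) : Commute x t := hA.comm x hx t hA.t_mem

theorem sq {x : G} (hx : x ∈ A) : x * x = 1 := by
  rcases (hA.mem x).1 hx with rfl | ⟨-, h⟩
  · exact one_mul 1
  · obtain ⟨k, hk⟩ := isConj_iff.1 h.symm
    rw [← hk, show k * t * k⁻¹ * (k * t * k⁻¹) = k * (t * t) * k⁻¹ by group, hA.t2, mul_one, mul_inv_cancel]

theorem conj_mem_of_commute {g x : G} (hg : Commute g t) (hx : x ∈ A) : g * x * g⁻¹ ∈ A := by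
  refine (hA.mem _).2 ?_
  rcases (hA.mem x).1 hx with rfl | ⟨h1, h2⟩
  · left; rw [mul_one, mul_inv_cancel]
  · exact Or.inr ⟨(hg.mul_left h1).mul_left hg.inv_left, (isConj_iff.2 ⟨g, rfl⟩ : IsConj x _).symm.trans h2⟩

/-- An element moving `t` into `A` normalises `A`. -/
theorem normalises {g : G} (hg : g * t * g⁻¹ ∈ A) (x : G) : g * x * g⁻¹ ∈ A ↔ x ∈ A := by
  have hle : A ≤ A.map (MulAut.conj g).toMonoidHom := by
    intro a ha
    refine ⟨g⁻¹ * a * g, (hA.mem _).2 ?_, by simp [mul_assoc]⟩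
    rcases (hA.mem a).1 ha with rfl | ⟨-, h2⟩
    · left; rw [mul_one, inv_mul_cancel]
    · refine Or.inr ⟨?_, (isConj_iff.2 ⟨g, by group⟩ : IsConj (g⁻¹ * a * g) a).trans h2⟩
      calc g⁻¹ * a * g * t = g⁻¹ * (a * (g * t * g⁻¹)) * g := by group
        _ = g⁻¹ * (g * t * g⁻¹ * a) * g := by rw [(hA.comm a ha _ hg).eq]
        _ = t * (g⁻¹ * a * g) := by group
  have heq := eq_of_le_of_card_ge hle
    (Nat.card_congr (A.equivMapOfInjective _ (MulAut.conj g).injective).toEquiv).ge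
  refine ⟨fun h => ?_, fun h => heq.symm ▸ (⟨x, h, rfl⟩ : g * x * g⁻¹ ∈ A.map (MulAut.conj g).toMonoidHom)⟩
  rw [heq] at h
  obtain ⟨z, hz, hzx⟩ := h
  rwa [← (MulAut.conj g).injective (hzx : (MulAut.conj g) z = MulAut.conj g x)]

/-- `t` is central in the centraliser of `v`. -/
theorem centralizer_le : centralizer ({v} : Set G) ≤ centralizer ({t} : Set G) := by
  haveI : Fact (Nat.Prime 2) := ⟨Nat.prime_two⟩
  set X := centralizer ({v} : Set G) with hX
  let T : X := ⟨t, mem_centralizer_singleton_iff.2 hA.vt.symm.eq⟩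
  have hT : orderOf T = 2 := by
    rw [Subgroup.orderOf_mk]; exact orderOf_eq_prime (by rw [pow_two, hA.t2]) hA.t1
  have hiso : ∀ g : X, Commute (g * T * g⁻¹) T → g * T * g⁻¹ = T := by
    intro g hg
    refine Subtype.ext ?_
    show (g : G) * t * (g : G)⁻¹ = t
    have hm : (g : G) * t * (g : G)⁻¹ ∈ A :=
      (hA.mem _).2 (Or.inr ⟨hg.map X.subtype, (isConj_iff.2 ⟨(g : G), rfl⟩ : IsConj t _).symm⟩)
    obtain ⟨a, ha, hat⟩ := hA.act'
    have hgv : (g : G) * v * (g : G)⁻¹ = v := mul_inv_eq_iff_eq_mul.2 (mem_centralizer_singleton_iff.1 g.2)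
    have e : v * ((g : G) * a * (g : G)⁻¹) * v * ((g : G) * a * (g : G)⁻¹) = (g : G) * t * (g : G)⁻¹ := by
      conv_lhs => rw [← hgv]
      rw [← hat]; group
    rcases hA.act _ ((hA.normalises hm a).2 ha) with h | h
    · rw [e] at h
      exact absurd (mul_left_cancel ((mul_inv_eq_one.1 h).trans (mul_one _).symm)) hA.t1
    · exact e.symm.trans h
  have hO := CfsgLib.ZStar.odd_card_oddCore X
  have hsmall : ∀ n ∈ Cfsg.oddCore X, (∀ c : X, (c : G) ∈ A → Commute c n → (c : G) ≠ 1 → n = 1) := by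
    intro n hn c hc hcn hc1
    obtain ⟨k, hk⟩ := isConj_iff.1 (((hA.mem _).1 hc).resolve_left hc1).2.symm
    have hkA : k * t * k⁻¹ ∈ A := by rw [hk]; exact hc
    have hnc : Commute (k⁻¹ * (n : G) * k) t := by
      have h : Commute (k⁻¹ * (n : G) * k) (k⁻¹ * (k * t * k⁻¹) * k) := by
        rw [hk]
        simpa using ((hcn.symm.map X.subtype).map (MulAut.conj k⁻¹))
      simpa [mul_assoc] using h
    have hnA : ∀ x ∈ A, (n : G) * x * (n : G)⁻¹ ∈ A := fun x hx => by
      have h1 : k⁻¹ * x * k ∈ A := (hA.normalises hkA _).1 (by simpa [mul_assoc] using hx)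
      have h2 := (hA.normalises hkA _).2 (hA.conj_mem_of_commute hnc h1)
      rwa [show k * (k⁻¹ * (n : G) * k * (k⁻¹ * x * k) * (k⁻¹ * (n : G) * k)⁻¹) * k⁻¹ =
        (n : G) * x * (n : G)⁻¹ by group] at h2
    have hno : Odd (orderOf n) := by
      have hd := orderOf_dvd_natCard (⟨n, hn⟩ : Cfsg.oddCore X)
      rw [Subgroup.orderOf_mk] at hd
      exact hO.of_dvd_nat hd
    have hnx : ∀ x : X, (x : G) ∈ A → Commute x n := fun x hx => by
      have hz : x * n * x⁻¹ * n⁻¹ ∈ Cfsg.oddCore X :=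
        mul_mem (Subgroup.Normal.conj_mem inferInstance n hn x) (inv_mem hn)
      have hzA : ((x * n * x⁻¹ * n⁻¹ : X) : G) ∈ A := by
        rw [Subgroup.coe_mul, Subgroup.coe_mul, Subgroup.coe_mul, Subgroup.coe_inv, Subgroup.coe_inv,
          mul_assoc ((x : G) * n), mul_assoc (x : G), ← mul_assoc (n : G)]
        exact mul_mem hx (hnA _ (inv_mem hx))
      have hd := orderOf_dvd_natCard (⟨x * n * x⁻¹ * n⁻¹, hz⟩ : Cfsg.oddCore X)
      rw [Subgroup.orderOf_mk] at hd
      have h1 := CfsgLib.ZStar.eq_one_of_odd_of_sq (hO.of_dvd_nat hd)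
        (show (x * n * x⁻¹ * n⁻¹) ^ 2 = 1 from Subtype.ext (by rw [pow_two]; exact hA.sq hzA))
      exact mul_inv_eq_iff_eq_mul.1 (mul_inv_eq_one.1 h1)
    have hnt : Commute (n : G) t := ((hnx T hA.t_mem).map X.subtype).symm
    obtain ⟨j, hj⟩ := hA.two n hnt (mem_centralizer_singleton_iff.1 n.2) fun x hx hxv =>
      ((hnx ⟨x, mem_centralizer_singleton_iff.2 hxv.eq⟩ hx).map X.subtype).symm
    have hj' : n ^ 2 ^ j = 1 := Subtype.ext (by rw [Subgroup.coe_pow]; exact hj)
    obtain ⟨i, -, hi⟩ := (Nat.dvd_prime_pow Nat.prime_two).1 (orderOf_dvd_of_pow_eq_one hj')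
    rw [hi] at hno
    rcases i with _ | i
    · rwa [pow_zero, orderOf_eq_one_iff] at hi
    · exact absurd hno (Nat.not_odd_iff_even.2 (by simp [Nat.even_pow]))
  have hbot : Cfsg.oddCore X = ⊥ := by
    obtain ⟨a, ha, hav, ha1, hat⟩ := hA.four
    let a' : X := ⟨a, mem_centralizer_singleton_iff.2 hav.eq⟩
    refine eq_bot_of_four (a := T) (b := a') (Subtype.ext hA.t2) (Subtype.ext (hA.sq ha))
      (fun n hn h => hsmall n hn T hA.t_mem h hA.t1) (fun n hn h => hsmall n hn a' ha h ha1)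
      (fun n hn h => hsmall n hn (T * a') (mul_mem hA.t_mem ha) h fun e => hat ?_)
    exact (eq_inv_of_mul_eq_one_right e).trans (inv_eq_of_mul_eq_one_right hA.t2)
  intro g hg
  have h := commutator_mem_oddCore hT hiso ⟨g, hg⟩
  rw [hbot, mem_bot, mul_inv_eq_one, mul_inv_eq_iff_eq_mul] at h
  exact mem_centralizer_singleton_iff.2 (congrArg Subtype.val h).symm

/-- `va` is like `v`. -/
theorem mul_left {a : G} (ha : a ∈ A) (hav : Commute a v) : Clique A t (v * a) := by
  have hact : ∀ x ∈ A, v * a * x * (v * a) * x = v * x * v * x := fun x hx => by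
    calc v * a * x * (v * a) * x = v * (a * x) * (v * a) * x := by simp only [mul_assoc]
      _ = v * (x * a) * (a * v) * x := by rw [(hA.comm a ha x hx).eq, hav.eq]
      _ = v * x * (a * a) * v * x := by simp only [mul_assoc]
      _ = _ := by rw [hA.sq ha, mul_one]
  obtain ⟨x₀, hx₀, hxt⟩ := hA.act'
  obtain ⟨f, hf, hfv, hf1, hft⟩ := hA.four
  refine ⟨hA.t1, hA.t2, hA.mem, hA.comm, hA.vt.mul_left (hA.commute_t ha), ?_, fun h => hA.vA ?_,
    fun x hx => by rw [hact x hx]; exact hA.act x hx, ⟨x₀, hx₀, by rw [hact x₀ hx₀]; exact hxt⟩,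
    ⟨f, hf, hfv.mul_right (hA.comm f hf a ha), hf1, hft⟩, ?_⟩
  · calc v * a * (v * a) = v * (a * v) * a := by simp only [mul_assoc]
      _ = 1 := by rw [hav.eq, ← mul_assoc, hA.v2, one_mul, hA.sq ha]
  · simpa [mul_assoc, hA.sq ha] using mul_mem h ha
  · intro n hnt hnw hn
    have hna : Commute n a := hn a ha (hav.mul_right (Commute.refl a))
    refine hA.two n hnt ?_ fun x hx hxv => hn x hx (hxv.mul_right (hA.comm x hx a ha))
    have h := hnw.mul_right hna
    rwa [mul_assoc, hA.sq ha, mul_one] at h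

/-- No simple group has such a configuration. -/
theorem false_of_simple [IsSimpleGroup G] : False := by
  obtain ⟨g, hg⟩ : ∃ g : G, ¬ Commute (g * t * g⁻¹) t := by
    by_contra h
    push Not at h
    have hnc : normalClosure ({t} : Set G) ≤ A := (closure_le A).2 fun x hx => by
      obtain ⟨s, rfl, hs⟩ := Group.mem_conjugatesOfSet_iff.1 hx
      obtain ⟨k, rfl⟩ := isConj_iff.1 hs
      exact (hA.mem _).2 (Or.inr ⟨h k, hs.symm⟩)
    rcases (normalClosure_normal (s := ({t} : Set G))).eq_bot_or_eq_top with e | e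
    · exact hA.t1 (mem_bot.1 (e ▸ subset_normalClosure rfl))
    · exact hA.vA (hnc (e ▸ mem_top v))
  set u := g * t * g⁻¹ with hu
  have hut : IsConj t u := isConj_iff.2 ⟨g, rfl⟩
  have hu2 : u * u = 1 := by
    rw [hu, show g * t * g⁻¹ * (g * t * g⁻¹) = g * (t * t) * g⁻¹ by group, hA.t2, mul_one, mul_inv_cancel]
  obtain ⟨w, hw2, hw1, hwu, hwv, hcase⟩ := exists_central_conj hu2 hA.v2 fun h =>
    hA.vA ((hA.mem v).2 (Or.inr ⟨hA.vt, (hut.trans h).symm⟩))
  have hwt : Commute w t := mem_centralizer_singleton_iff.1 (hA.centralizer_le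
    (mem_centralizer_singleton_iff.2 hwv.eq))
  -- what is coloured in `C(u)` lies in `g A g⁻¹`
  have hmove : ∀ x, Commute x u → IsConj x t → g⁻¹ * x * g ∈ A := fun x hx hxt => by
    refine (hA.mem _).2 (Or.inr ⟨?_, (isConj_iff.2 ⟨g, by group⟩ : IsConj (g⁻¹ * x * g) x).trans hxt⟩)
    calc g⁻¹ * x * g * t = g⁻¹ * (x * u) * g := by rw [hu]; group
      _ = g⁻¹ * (u * x) * g := by rw [hx.eq]
      _ = t * (g⁻¹ * x * g) := by rw [hu]; group
  have hwA : w ∉ A := by
    intro hwA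
    obtain ⟨k, hk⟩ := isConj_iff.1 (((hA.mem w).1 hwA).resolve_left hw1).2.symm
    have hku : k⁻¹ * u * k ∈ A := by
      refine (hA.mem _).2 (Or.inr ⟨?_, (isConj_iff.2 ⟨k, by group⟩ : IsConj (k⁻¹ * u * k) u).trans hut.symm⟩)
      calc k⁻¹ * u * k * t = k⁻¹ * (u * w) * k := by rw [← hk]; group
        _ = k⁻¹ * (w * u) * k := by rw [hwu.eq]
        _ = t * (k⁻¹ * u * k) := by rw [← hk]; group
    have huA := (hA.normalises (hk.symm ▸ hwA : k * t * k⁻¹ ∈ A) _).2 hku
    rw [show k * (k⁻¹ * u * k) * k⁻¹ = u by group] at huA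
    exact hg (hA.commute_t huA)
  rcases hcase with h | h
  · have h1 := hmove (u * w) ((Commute.refl u).mul_left hwu) (h.symm.trans hut.symm)
    rw [show g⁻¹ * (u * w) * g = t * (g⁻¹ * w * g) by rw [hu]; group] at h1
    have h2 := mul_mem hA.t_mem h1
    rw [← mul_assoc, hA.t2, one_mul] at h2
    have h3 : IsConj w t := (isConj_iff.2 ⟨g⁻¹, by group⟩ : IsConj w (g⁻¹ * w * g)).trans
      ((((hA.mem _).1 h2).resolve_left fun e => hw1 (by
        rw [show w = g * (g⁻¹ * w * g) * g⁻¹ by group, e, mul_one, mul_inv_cancel])).2)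
    exact hwA ((hA.mem w).2 (Or.inr ⟨hwt, h3⟩))
  · have ha : v * w ∈ A := (hA.mem _).2 (Or.inr ⟨hA.vt.mul_left hwt, h.symm.trans hut.symm⟩)
    have := (hA.mul_left ha ((Commute.refl v).mul_left hwv)).centralizer_le
      (mem_centralizer_singleton_iff.2 (show u * (v * (v * w)) = v * (v * w) * u by
        rw [← mul_assoc v v w, hA.v2, one_mul]; exact hwu.symm.eq))
    exact hg (mem_centralizer_singleton_iff.1 this)

end Clique

end CfsgLib.Recog.HeldTri
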