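import Cfsg.Agent.Lib.Recog.HeldType.Elation
import Cfsg.Agent.Lib.Recog.HeldType.Core
import Cfsg.Agent.Lib.PGroups.Basic
import Mathlib.LinearAlgebra.Matrix.SchurComplement

/-!
# Connected commuting graphs of involutions (owner: helper25)

The involutions of a group with a normal `PSL(3, 4)` form a connected commuting graph: two elations are joined by
a path of length three through elations sharing a centre or an axis, and every involution commutes with one of
the normal subgroup.
-/

set_option autoImplicit false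
set_option linter.style.haveILetI false

namespace CfsgLib.Recog.HeldTri

open Matrix CfsgLib.Recog.HeldType

variable {F : Type*} [Field F]

/-- Two elations with the same centre or the same axis commute. -/
theorem elation_comm {u w v z : Fin 3 → F} (hw : w ⬝ᵥ v = 0) (hz : z ⬝ᵥ u = 0) :
    (1 + vecMulVec u w) * (1 + vecMulVec v z) = (1 + vecMulVec v z) * (1 + vecMulVec u w) := by
  have h1 : vecMulVec u w * vecMulVec v z = 0 := by
    rw [vecMulVec_mul_vecMulVec, hw, zero_smul, vecMulVec_zero]
  have h2 : vecMulVec v z * vecMulVec u w = 0 := by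
    rw [vecMulVec_mul_vecMulVec, hz, zero_smul, vecMulVec_zero]
  simp only [add_mul, mul_add, one_mul, mul_one, h1, h2, add_zero]
  abel

/-- An elation as an element of the special linear group. -/
def elationSL (u w : Fin 3 → F) (h : w ⬝ᵥ u = 0) : Matrix.SpecialLinearGroup (Fin 3) F :=
  ⟨1 + vecMulVec u w, by
    rw [vecMulVec_eq Unit, det_one_add_replicateCol_mul_replicateRow, h,
      add_zero]⟩

theorem orderOf_elation (h2 : (2 : F) = 0) (u w : Fin 3 → F) (h : w ⬝ᵥ u = 0) (hu : u ≠ 0) (hw : w ≠ 0) :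
    orderOf (elationSL u w h : ProjectiveSpecialLinearGroup (Fin 3) F) = 2 := by
  refine orderOf_eq_prime ?_ fun h1 => ?_
  · rw [← QuotientGroup.mk_pow, QuotientGroup.eq_one_iff]
    have : (elationSL u w h) ^ 2 = 1 := by
      apply Matrix.SpecialLinearGroup.ext
      intro i j
      rw [Matrix.SpecialLinearGroup.coe_pow, pow_two, Matrix.SpecialLinearGroup.coe_one,
        Elation.Tv.sq h2 (X := (elationSL u w h : Matrix (Fin 3) (Fin 3) F)) ⟨u, w, hu, hw, h, rfl⟩]
    rw [this]
    exact one_mem _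
  · rw [QuotientGroup.eq_one_iff, Matrix.SpecialLinearGroup.mem_center_iff] at h1
    obtain ⟨r, -, hr⟩ := h1
    have hN : (1 : Matrix (Fin 3) (Fin 3) F) + vecMulVec u w = scalar (Fin 3) r := hr.symm
    obtain ⟨i, hi⟩ := Function.ne_iff.1 hu
    obtain ⟨j, hj⟩ := Function.ne_iff.1 hw
    by_cases hij : i = j
    · subst hij
      have hd := congrFun (congrFun hN i) i
      have hall : ∀ k, vecMulVec u w k k = r - 1 := fun k => by
        have := congrFun (congrFun hN k) k
        simp at this
        linear_combination this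
      have hoff : ∀ k l, k ≠ l → u k * w l = 0 := fun k l hkl => by
        have := congrFun (congrFun hN k) l
        simpa [Matrix.one_apply_ne hkl, vecMulVec_apply, Matrix.diagonal_apply_ne _ hkl] using this
      obtain ⟨k, hk⟩ : ∃ k : Fin 3, k ≠ i := exists_ne i
      have hk1 := hall k
      rw [← hall i, vecMulVec_apply, vecMulVec_apply] at hk1
      have := hoff k i hk
      rcases mul_eq_zero.1 this with h0 | h0
      · rw [h0, zero_mul] at hk1
        exact mul_ne_zero hi hj hk1.symm
      · exact hj h0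
    · have := congrFun (congrFun hN i) j
      simp [Matrix.one_apply_ne hij, vecMulVec_apply, Matrix.diagonal_apply_ne _ hij] at this
      exact this.elim (fun h0 => hi h0) (fun h0 => hj h0)

/-- Adjacency in the commuting graph of involutions. -/
abbrev Adj {Y : Type*} [Group Y] (p q : Y) : Prop := orderOf p = 2 ∧ orderOf q = 2 ∧ Commute p q

/-- The involutions of `PSL(3, 4)` are connected. -/
theorem psl_connected [Fintype F] (hF : Fintype.card F = 4) {x y : ProjectiveSpecialLinearGroup (Fin 3) F}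
    (hx : orderOf x = 2) (hy : orderOf y = 2) : Relation.ReflTransGen Adj x y := by
  classical
  obtain ⟨-, -, -, -, -, -, h2⟩ := CfsgLib.Classical.PSLThreeFour.exists_coords hF
  obtain ⟨X, rfl, hX⟩ := CfsgLib.Classical.PSLThreeFour.exists_involution_lift hF hx
  obtain ⟨Y, rfl, hY⟩ := CfsgLib.Classical.PSLThreeFour.exists_involution_lift hF hy
  obtain ⟨u, w, hu, hw, hwu, hXe⟩ := Elation.tv_of_isTransvection hX
  obtain ⟨v, z, hv, hz, hzv, hYe⟩ := Elation.tv_of_isTransvection hY
  obtain rfl : X = elationSL u w hwu := Subtype.ext hXe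
  obtain rfl : Y = elationSL v z hzv := Subtype.ext hYe
  obtain ⟨p, hp0, hwp, hzp⟩ : ∃ p : Fin 3 → F, p ≠ 0 ∧ w ⬝ᵥ p = 0 ∧ z ⬝ᵥ p = 0 := by
    by_contra hc
    push Not at hc
    have hinj : Function.Injective (Matrix.mulVecLin (!![w 0, w 1, w 2; z 0, z 1, z 2])) := by
      refine LinearMap.ker_eq_bot.1 ((Submodule.eq_bot_iff _).2 fun p hp => ?_)
      rw [LinearMap.mem_ker, Matrix.mulVecLin_apply] at hp
      by_contra hp0
      have h0 := congrFun hp 0
      have h1 := congrFun hp 1
      simp [mulVec, dotProduct, Fin.sum_univ_three] at h0 h1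
      exact hc p hp0 (by simpa [dotProduct, Fin.sum_univ_three] using h0)
        (by simpa [dotProduct, Fin.sum_univ_three] using h1)
    have := LinearMap.finrank_le_finrank_of_injective hinj
    simp at this
  have edge : ∀ {a b c d : Fin 3 → F} (hba : b ⬝ᵥ a = 0) (hdc : d ⬝ᵥ c = 0), a ≠ 0 → b ≠ 0 → c ≠ 0 → d ≠ 0 →
      b ⬝ᵥ c = 0 → d ⬝ᵥ a = 0 →
      Adj (elationSL a b hba : ProjectiveSpecialLinearGroup (Fin 3) F) (elationSL c d hdc) := by
    intro a b c d hba hdc ha hb hc hd h1 h1'
    refine ⟨orderOf_elation h2 a b hba ha hb, orderOf_elation h2 c d hdc hc hd, ?_⟩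
    show (_ : ProjectiveSpecialLinearGroup (Fin 3) F) * _ = _ * _
    rw [← QuotientGroup.mk_mul, ← QuotientGroup.mk_mul]
    exact congrArg _ (Subtype.ext (elation_comm h1 h1'))
  exact ((Relation.ReflTransGen.single (edge hwu hwp hu hw hp0 hw hwp hwu)).tail
    (edge hwp hzp hp0 hw hp0 hz hwp hzp)).tail (edge hzp hzv hp0 hz hv hz hzv hzp)

open Subgroup

/-- A normal `PSL(3, 4)` connects all involutions. -/
theorem connected_of_normal {X : Type*} [Group X] [Finite X] (L : Subgroup X) [L.Normal]
    (hL : CfsgLib.CIT.IsPSLThreeFour L) {a b : X} (ha : orderOf a = 2) (hb : orderOf b = 2) :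
    Relation.ReflTransGen Adj a b := by
  classical
  haveI : Fact (Nat.Prime 2) := ⟨Nat.prime_two⟩
  obtain ⟨F, _, _, hF, ⟨φ⟩⟩ := hL
  have hL2 : 2 ∣ Nat.card L := by
    rw [Nat.card_congr φ.toEquiv]
    refine orderOf_elation (F := F) ?_ (Pi.single 0 1) (Pi.single 1 1) (by simp) ?_ ?_ ▸
      orderOf_dvd_natCard _
    · obtain ⟨-, -, -, -, -, -, h2⟩ := CfsgLib.Classical.PSLThreeFour.exists_coords hF
      exact h2
    · exact fun h => by simpa using congrFun h 0
    · exact fun h => by simpa using congrFun h 1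
  have near : ∀ c : X, orderOf c = 2 → ∃ z ∈ L, orderOf z = 2 ∧ Commute c z := by
    intro c hc
    have hp : IsPGroup 2 (zpowers c) := IsPGroup.of_card (n := 1) (by rw [Nat.card_zpowers, hc, pow_one])
    obtain ⟨R, hR⟩ := hp.exists_le_sylow
    obtain ⟨e, he⟩ := exists_prime_orderOf_dvd_card' 2 hL2
    obtain ⟨S, hS⟩ := (IsPGroup.of_card (n := 1) (by
      rw [Nat.card_zpowers, orderOf_coe, he, pow_one]) : IsPGroup 2 (zpowers (e : X))).exists_le_sylow
    obtain ⟨g, rfl⟩ := MulAction.exists_smul_eq X S R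
    have hne : ((g * e * g⁻¹ : X)) ∈ L ⊓ ((g • S : Sylow 2 X) : Subgroup X) := by
      refine mem_inf.2 ⟨Normal.conj_mem inferInstance _ e.2 g, ?_⟩
      rw [Sylow.coe_subgroup_smul]
      exact ⟨_, hS (mem_zpowers _), by simp [MulAut.smul_def]⟩
    set R : Sylow 2 X := g • S
    haveI : (L.subgroupOf (R : Subgroup X)).Normal := inferInstance
    have hN : L.subgroupOf (R : Subgroup X) ≠ ⊥ := fun h => by
      have h1 : (g * e * g⁻¹ : X) = 1 := by
        have := (eq_bot_iff_forall _).1 h ⟨_, (mem_inf.1 hne).2⟩ (mem_subgroupOf.2 (mem_inf.1 hne).1)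
        exact congrArg Subtype.val this
      have he1 : (e : X) = 1 := by
        have := congrArg (fun q => g⁻¹ * q * g) h1
        simpa [mul_assoc] using this
      rw [← orderOf_coe, he1, orderOf_one] at he
      omega
    have hK := CfsgLib.PGroups.inf_center_ne_bot R.isPGroup' hN
    obtain ⟨k, hk⟩ := IsPGroup.iff_card.1 (R.isPGroup'.to_subgroup
      (L.subgroupOf (R : Subgroup X) ⊓ Subgroup.center (R : Subgroup X)))
    have hk0 : k ≠ 0 := fun h => hK (eq_bot_of_card_eq _ (by rw [hk, h, pow_zero]))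
    obtain ⟨z, hz⟩ := exists_prime_orderOf_dvd_card' 2 (hk ▸ dvd_pow_self 2 hk0)
    obtain ⟨hzL, hzC⟩ := mem_inf.1 z.2
    refine ⟨((z : (R : Subgroup X)) : X), mem_subgroupOf.1 hzL, by rw [orderOf_coe, orderOf_coe, hz], ?_⟩
    exact congrArg Subtype.val (Subgroup.mem_center_iff.1 hzC ⟨c, hR (mem_zpowers c)⟩)
  obtain ⟨z, hz, hz2, hza⟩ := near a ha
  obtain ⟨z', hz', hz'2, hzb⟩ := near b hb
  have step : Relation.ReflTransGen Adj z z' := by
    have h := psl_connected hF (x := φ ⟨z, hz⟩) (y := φ ⟨z', hz'⟩)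
      (by rw [MulEquiv.orderOf_eq, Subgroup.orderOf_mk, hz2])
      (by rw [MulEquiv.orderOf_eq, Subgroup.orderOf_mk, hz'2])
    have := h.lift (p := Adj) (fun q => ((φ.symm q : L) : X)) fun p q hpq =>
      ⟨by rw [orderOf_coe, MulEquiv.orderOf_eq, hpq.1], by rw [orderOf_coe, MulEquiv.orderOf_eq, hpq.2.1],
        (hpq.2.2.map φ.symm).map L.subtype⟩
    simpa [Function.onFun] using this
  exact ((Relation.ReflTransGen.single (r := Adj) (⟨ha, hz2, hza⟩ : Adj a z)).trans step).tail ⟨hz'2, hb, hzb.symm⟩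

end CfsgLib.Recog.HeldTri
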