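import Cfsg.Agent.Lib.Signalizer.Involutions
import Mathlib.GroupTheory.FixedPointFree
import Mathlib.GroupTheory.Subgroup.Simple

/-!
# A subgroup controlling the fusion of one class of involutions (owner: helper25)

`Ctl H t`: `H` contains the centraliser of `t`, and every conjugate of `t` in `H` is conjugate to `t` inside `H`.
An element moving one conjugate of `t` in `H` to another one then lies in `H`.
-/

set_option autoImplicit false

namespace CfsgLib.Recog.HeldTri

open Subgroup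

variable {G : Type*} [Group G]

/-- `H` contains the centraliser of `t` and fuses all conjugates of `t` that it contains. -/
structure Ctl (H : Subgroup G) (t : G) : Prop where
  cent : centralizer ({t} : Set G) ≤ H
  conj : ∀ u ∈ H, IsConj u t → ∃ h ∈ H, h * u * h⁻¹ = t

theorem Ctl.mem {H : Subgroup G} {t : G} (hC : Ctl H t) {u g : G} (hu : u ∈ H) (hut : IsConj u t)
    (hgu : g * u * g⁻¹ ∈ H) : g ∈ H := by
  obtain ⟨a, ha, hau⟩ := hC.conj u hu hut
  obtain ⟨b, hb, hbu⟩ := hC.conj _ hgu ((isConj_iff.2 ⟨g, rfl⟩ : IsConj u _).symm.trans hut)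
  have hc : b * g * a⁻¹ * t = t * (b * g * a⁻¹) := by
    refine mul_inv_eq_iff_eq_mul.1 ?_
    calc b * g * a⁻¹ * t * (b * g * a⁻¹)⁻¹ = b * (g * (a⁻¹ * t * a) * g⁻¹) * b⁻¹ := by group
      _ = b * (g * u * g⁻¹) * b⁻¹ := by rw [← hau]; group
      _ = t := hbu
  have h := mul_mem (mul_mem (inv_mem hb) (hC.cent (mem_centralizer_singleton_iff.2 hc))) ha
  rwa [show b⁻¹ * (b * g * a⁻¹) * a = g by group] at h

theorem Ctl.mem_of_commute {H : Subgroup G} {t : G} (hC : Ctl H t) {u g : G} (hu : u ∈ H)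
    (hut : IsConj u t) (hc : Commute g u) : g ∈ H :=
  hC.mem hu hut (by rwa [hc.eq, mul_inv_cancel_right])

/-- Two involutions with product of odd order are conjugate. -/
theorem isConj_of_odd {a b : G} (ha : a * a = 1) (hb : b * b = 1) (ho : Odd (orderOf (a * b))) :
    IsConj a b := by
  obtain ⟨m, hm⟩ := ho
  have hai : a⁻¹ = a := inv_eq_of_mul_eq_one_right ha
  have hbi : b⁻¹ = b := inv_eq_of_mul_eq_one_right hb
  have hinv : a * (a * b) ^ m * a⁻¹ = ((a * b) ^ m)⁻¹ := by
    rw [← conj_pow, ← inv_pow, _root_.mul_inv_rev, hbi, hai, ← mul_assoc, ha, one_mul]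
  refine isConj_iff.2 ⟨(a * b) ^ m, ?_⟩
  have h1 : a * ((a * b) ^ m)⁻¹ = (a * b) ^ m * a := by
    rw [← hinv, hai, ← mul_assoc, ← mul_assoc, ha, one_mul]
  have h2 : (a * b) ^ m * (a * b) ^ m * (a * b) = 1 := by
    rw [← pow_add, ← pow_succ, show m + m + 1 = 2 * m + 1 by ring, ← hm, pow_orderOf_eq_one]
  rw [mul_assoc, h1, ← mul_assoc, eq_inv_of_mul_eq_one_left h2, _root_.mul_inv_rev, hbi, hai, mul_assoc, ha,
    mul_one]

/-- Two involutions with product of even order commute with an involution that is a power of the product. -/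
theorem exists_central [Finite G] {a b : G} (ha : a * a = 1) (hb : b * b = 1)
    (he : ¬ Odd (orderOf (a * b))) : ∃ w : G, w * w = 1 ∧ w ≠ 1 ∧ Commute w a ∧ Commute w b := by
  obtain ⟨m, hm⟩ := Nat.not_odd_iff_even.1 he
  have hpos := orderOf_pos (a * b)
  have hai : a⁻¹ = a := inv_eq_of_mul_eq_one_right ha
  have hbi : b⁻¹ = b := inv_eq_of_mul_eq_one_right hb
  obtain ⟨w, hw⟩ : ∃ w, w = (a * b) ^ m := ⟨_, rfl⟩
  have hww : w * w = 1 := by rw [hw, ← pow_add, ← hm, pow_orderOf_eq_one]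
  have hwa : a * w * a⁻¹ = w := by
    rw [hw, ← conj_pow, show a * (a * b) * a⁻¹ = (a * b)⁻¹ by
      rw [_root_.mul_inv_rev, hbi, hai, ← mul_assoc, ha, one_mul], inv_pow, ← hw,
      inv_eq_of_mul_eq_one_right hww]
  have hwab : Commute w (a * b) := hw ▸ (Commute.refl (a * b)).pow_left m
  refine ⟨w, hww, fun h1 => ?_, (mul_inv_eq_iff_eq_mul.1 hwa).symm, ?_⟩
  · have h := Nat.le_of_dvd (by omega) (orderOf_dvd_of_pow_eq_one (hw ▸ h1))
    omega
  · have h : Commute w (a⁻¹ * (a * b)) :=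
      (Commute.inv_right (mul_inv_eq_iff_eq_mul.1 hwa).symm).mul_right hwab
    rwa [inv_mul_cancel_left] at h

/-- A simple group has no proper subgroup that contains the centralisers of two classes of involutions and
fuses its own involutions into these two classes. -/
theorem eq_top [Finite G] [IsSimpleGroup G] {H : Subgroup G} {t y : G} (hC : Ctl H t) (ht1 : t ≠ 1)
    (ht : t * t = 1) (hy : y * y = 1) (hyt : ¬ IsConj y t)
    (hyc : centralizer ({y} : Set G) ≤ H)
    (hcls : ∀ w ∈ H, w * w = 1 → w ≠ 1 → IsConj w t ∨ ∃ h ∈ H, h * w * h⁻¹ = y) : H = ⊤ := by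
  rcases (normalClosure_normal (s := ({t} : Set G))).eq_bot_or_eq_top with h | h
  · exact absurd (mem_bot.1 (h ▸ subset_normalClosure rfl)) ht1
  refine top_le_iff.1 (h ▸ (closure_le H).2 fun u hu => ?_)
  obtain ⟨s, rfl, hsu⟩ := Group.mem_conjugatesOfSet_iff.1 hu
  obtain ⟨g, rfl⟩ := isConj_iff.1 hsu
  by_contra huH
  have hu2 : g * s * g⁻¹ * (g * s * g⁻¹) = 1 := by
    rw [show g * s * g⁻¹ * (g * s * g⁻¹) = g * (s * s) * g⁻¹ by group, ht, mul_one, mul_inv_cancel]
  obtain ⟨w, hw2, hw1, hwu, hwy⟩ := exists_central hu2 hy fun ho =>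
    hyt ((isConj_of_odd hu2 hy ho).symm.trans hsu.symm)
  have hwH : w ∈ H := hyc (mem_centralizer_singleton_iff.2 hwy.eq)
  refine huH ?_
  rcases hcls w hwH hw2 hw1 with hwt | ⟨k, hk, hkw⟩
  · exact hC.mem_of_commute hwH hwt hwu.symm
  · have hc : k * (g * s * g⁻¹) * k⁻¹ * y = y * (k * (g * s * g⁻¹) * k⁻¹) := by
      rw [← hkw]
      calc k * (g * s * g⁻¹) * k⁻¹ * (k * w * k⁻¹) = k * ((g * s * g⁻¹) * w) * k⁻¹ := by group
        _ = k * (w * (g * s * g⁻¹)) * k⁻¹ := by rw [hwu.eq]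
        _ = k * w * k⁻¹ * (k * (g * s * g⁻¹) * k⁻¹) := by group
    have h' := mul_mem (mul_mem (inv_mem hk) (hyc (mem_centralizer_singleton_iff.2 hc))) hk
    rwa [show k⁻¹ * (k * (g * s * g⁻¹) * k⁻¹) * k = g * s * g⁻¹ by group] at h'

/-- An odd normal subgroup on which a four-group acts with trivial fixed points is trivial. -/
theorem eq_bot_of_four [Finite G] {N : Subgroup G} [N.Normal] {a b : G} (ha : a * a = 1)
    (hb : b * b = 1) (h1 : ∀ n ∈ N, Commute a n → n = 1) (h2 : ∀ n ∈ N, Commute b n → n = 1)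
    (h3 : ∀ n ∈ N, Commute (a * b) n → n = 1) : N = ⊥ := by
  have key : ∀ c : G, c * c = 1 → (∀ n ∈ N, Commute c n → n = 1) → ∀ n ∈ N, c * n * c⁻¹ = n⁻¹ := by
    intro c hc hfix n hn
    have hfp : MonoidHom.FixedPointFree (MulAut.conjNormal c : N ≃* N) := fun m hm =>
      Subtype.ext (hfix m m.2 (mul_inv_eq_iff_eq_mul.1 (by
        simpa only [MulAut.conjNormal_apply] using congrArg Subtype.val hm)))
    have hinv : Function.Involutive (MulAut.conjNormal c : N ≃* N) := fun m => by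
      rw [← MulAut.mul_apply, ← map_mul, hc, map_one, MulAut.one_apply]
    simpa only [MulAut.conjNormal_apply, Subgroup.coe_inv] using
      congrArg Subtype.val (congrFun (hfp.coe_eq_inv_of_involutive hinv) ⟨n, hn⟩)
  refine (eq_bot_iff_forall N).2 fun n hn => h3 n hn (mul_inv_eq_iff_eq_mul.1 ?_)
  calc a * b * n * (a * b)⁻¹ = a * (b * n * b⁻¹) * a⁻¹ := by group
    _ = n := by rw [key b hb h2 n hn, key a ha h1 _ (inv_mem hn), inv_inv]

end CfsgLib.Recog.HeldTri
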