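import Cfsg.Agent.Lib.Recog.Held.HeHom
import Cfsg.Agent.Lib.Recog.SporHe.MultHom
import Cfsg.Agent.Lib.Recog.SporHe.CentBound
import Cfsg.Agent.Lib.Recog.SporHe.AutHe

set_option autoImplicit false
set_option maxRecDepth 4000

/-!
The presented Held group inside a group with the Held fusion pattern (owner: helper22).
-/

namespace CfsgLib.Recog.HeldTri.He

open Subgroup Cfsg
open CfsgLib.Recog.Held CfsgLib.Recog.Held.He
open CfsgLib.Recog.HeldType (Rel lifted_relations)

variable {G : Type*} [Group G] {t : G} {K : Coord t 0}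

/-- An embedding of He with the seven generators in known places. -/
structure Image (K : Coord t 0) (φ : Spor.He →* G) (d : G) : Prop where
  inj : Function.Injective φ
  rel : Rel d t (f K) (g K)
  da : Commute d (a K)
  dv : Commute d (v K)
  val : ∀ x, φ (PresentedGroup.of x) = image (a K) (b K) (c K) d t (f K) (g K) x

theorem exists_image [Finite G] (S : Setting K) : ∃ (φ : Spor.He →* G) (d : G), Image K φ d := by
  have B := basic K S
  have D4 := fourData S B
  have ht2 : t * t = 1 := K.t_sq (by norm_num)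
  obtain ⟨d, dC, da, db, hrel, hPd⟩ := D4.exists_d
  obtain ⟨h5, h4⟩ := lifted_relations (IsY t) D4.hP D4.hV D4.hsq D4.hcit hrel D4.ha D4.cC dC D4.fC D4.gC D4.heV
    D4.hc2 D4.hcV D4.hceV D4.hcf D4.hcg (fun z hz hP => by
      rcases (mem_four B).1 hz with rfl | rfl | rfl | rfl
      · rfl
      · exact absurd hP B.cu.1
      · exact absurd hP B.cu.2.1
      · exact absurd hP B.cu.2.2) hPd
  rw [B.fgt] at hrel
  have hta : Commute (a K) t := K.mem _ lt_ca
  have htc : Commute (c K) t := K.mem _ lt_cc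
  have htf : Commute (f K) t := K.mem _ lt_cf
  have htg : Commute (g K) t := K.mem _ lt_cg
  obtain ⟨φ, hφ⟩ := exists_hom_of_relations (A := a K) (B := b K) (C := c K) (D := d) (E := t) (F := f K) (H := g K)
    B.ya.2.1 B.yb.2.1 B.yc.2.1 hrel.hd ht2 hrel.hf hrel.hg B.ca'.symm da.symm hta B.fa.symm B.ga.symm
    db.symm B.bt B.fb.symm B.gb.symm htc B.cf' B.cg' htf.symm htg.symm
    (by
      rw [show (a K * b K) ^ 4 = a K * b K * (a K * b K) * (a K * b K * (a K * b K)) by
        simp only [pow_succ, pow_zero, one_mul, mul_assoc]]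
      exact B.z_sq)
    (by
      rw [show (b K * c K) ^ 3 = b K * c K * (b K * c K) * (b K * c K) by
        simp only [pow_succ, pow_zero, one_mul, mul_assoc]]
      exact B.bc)
    (by rw [show (10 : ℕ) = 5 + 5 from rfl, pow_add, h5, B.ya.2.1])
    hrel.hde hrel.hdf
    (by
      rw [show (4 : ℕ) = 2 + 2 from rfl, pow_add, pow_two, B.fgt, ht2])
    hrel.hdg
    (by rw [pow_two, B.fgt])
    (by
      rw [show (a K * b K * c K) ^ 3 = a K * b K * c K * (a K * b K * c K) * (a K * b K * c K) by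
        simp only [pow_succ, pow_zero, one_mul, mul_assoc], B.abc])
    h5.symm h4
  have := CfsgLib.Recog.SporHe.isSimple
  refine ⟨φ, d, ?_, hrel, da, ((mem_cent_four B).1 dC).2, hφ⟩
  rw [← MonoidHom.ker_eq_bot_iff]
  refine (IsSimpleGroup.eq_bot_or_eq_top_of_normal φ.ker inferInstance).resolve_right fun h => B.ya.1 ?_
  rw [← MonoidHom.mem_ker.1 (h ▸ Subgroup.mem_top (PresentedGroup.of Spor.He.Gen.a : Spor.He)), hφ]
  rfl

namespace Image

open CfsgLib.Recog.SporHe CfsgLib.Recog.SporHe.Centralizer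

variable {φ : Spor.He →* G} {d : G} (I : Image K φ d)
include I

theorem el0 : φ (el 0) = a K := by
  rw [show (0 : ℕ) = gens.idxOf Spor.He.Gen.a from rfl, SporHe.Mult.el_of, I.val]; rfl

theorem el3 : φ (el 3) = d := by
  rw [show (3 : ℕ) = gens.idxOf Spor.He.Gen.d from rfl, SporHe.Mult.el_of, I.val]; rfl

theorem mem_a : a K ∈ φ.range := ⟨_, I.el0⟩

theorem mem_d : d ∈ φ.range := ⟨_, I.el3⟩

theorem mem_t : t ∈ φ.range := ⟨_, (I.val .e).trans rfl⟩

theorem mem_f : f K ∈ φ.range := ⟨_, (I.val .f).trans rfl⟩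

theorem mem_g : g K ∈ φ.range := ⟨_, (I.val .g).trans rfl⟩

/-- `d` is conjugate to `t` in the image. -/
theorem conj_d : ∃ h ∈ φ.range, h * d * h⁻¹ = t := by
  have hb := CfsgLib.Recog.HeldType.braid I.rel.hd I.rel.he I.rel.hde
  refine ⟨d * t, mul_mem I.mem_d I.mem_t, ?_⟩
  rw [mul_inv_eq_iff_eq_mul, hb, mul_assoc]

/-- The image contains the centraliser of `t`. -/
theorem cent_le [Finite G] : centralizer ({t} : Set G) ≤ φ.range := by
  have hle : (cent.map φ) ≤ centralizer ({d} : Set G) := by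
    rintro _ ⟨x, hx, rfl⟩
    rw [mem_centralizer_singleton_iff, ← I.el3, ← map_mul, ← map_mul, mem_centralizer_singleton_iff.1 hx]
  obtain ⟨h, hh, hd⟩ := I.conj_d
  have hcd : Nat.card (centralizer ({d} : Set G)) = 21504 := by
    rw [← K.card_cent]
    refine Nat.card_congr (Equiv.subtypeEquiv (MulAut.conj h).toEquiv fun x => ?_)
    rw [mem_centralizer_singleton_iff, ← hd]
    show x * d = d * x ↔ h * x * h⁻¹ * (h * d * h⁻¹) = h * d * h⁻¹ * (h * x * h⁻¹)
    rw [show h * x * h⁻¹ * (h * d * h⁻¹) = h * (x * d) * h⁻¹ by group,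
      show h * d * h⁻¹ * (h * x * h⁻¹) = h * (d * x) * h⁻¹ by group, mul_left_inj, mul_right_inj]
  have heq : cent.map φ = centralizer ({d} : Set G) := by
    refine eq_of_le_of_card_ge hle ?_
    rw [hcd, ← Nat.card_congr (cent.equivMapOfInjective φ I.inj).toEquiv, SporHe.Aut.card_cent]
  intro x hx
  have h1 : h⁻¹ * x * h ∈ centralizer ({d} : Set G) := by
    rw [mem_centralizer_singleton_iff]
    have hxt : x * t = t * x := mem_centralizer_singleton_iff.1 hx
    calc h⁻¹ * x * h * d = h⁻¹ * (x * (h * d * h⁻¹)) * h := by group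
      _ = h⁻¹ * ((h * d * h⁻¹) * x) * h := by rw [hd, hxt]
      _ = d * (h⁻¹ * x * h) := by group
  rw [← heq] at h1
  obtain ⟨y, -, hy⟩ := h1
  have := mul_mem (mul_mem hh ⟨y, hy⟩) (inv_mem hh)
  rwa [show h * (h⁻¹ * x * h) * h⁻¹ = x by group] at this

end Image

end CfsgLib.Recog.HeldTri.He
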