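import Cfsg.Agent.Lib.Recog.HeldTri.NonSimpleBase
import Cfsg.Agent.Lib.Recog.ExtraThirtyTwo.CliqueConj
import Cfsg.Agent.Lib.Recog.Held.LinearIso
import Cfsg.Agent.Lib.Core.Gaschutz
import Cfsg.Agent.Lib.Fusion.Bicyclic.Small
import Mathlib.GroupTheory.SemidirectProduct

/-!
The two pure cliques give the affine group `2^4:L4(2)` (owner: helper28).

All conjugates of `t` commute with `t`, so they form with the identity a normal elementary abelian subgroup of
order `16`; it has a complement in `C(t)`, so by Gaschütz one in the group.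
-/

set_option autoImplicit false
set_option linter.style.haveILetI false
set_option linter.unusedSectionVars false

namespace CfsgLib.Recog.HeldTri

open Subgroup
open CfsgLib.Recog.Held CfsgLib.Recog.Held.He
open Start NonSimple

/-- The elementary abelian group of order 16. -/
abbrev ElemSixteen : Type := Multiplicative (Fin 4 → ZMod 2)

/-- The affine group `2^4:L4(2)`. -/
abbrev AffineSixteen : Type := ElemSixteen ⋊[MonoidHom.id (MulAut ElemSixteen)] MulAut ElemSixteen

theorem exists_equiv_elemSixteen {A : Type*} [Group A] [Finite A] (hexp : ∀ a : A, a * a = 1)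
    (hcard : Nat.card A = 16) : Nonempty (ElemSixteen ≃* A) := by
  haveI : Fact (Nat.Prime 2) := ⟨Nat.prime_two⟩
  have hinv : ∀ a : A, a⁻¹ = a := fun a => inv_eq_of_mul_eq_one_left (hexp a)
  letI : CommGroup A := { (inferInstance : Group A) with
    mul_comm := fun a b => by rw [← hinv (a * b), _root_.mul_inv_rev, hinv, hinv] }
  letI : Module (ZMod 2) (Additive A) := AddCommGroup.zmodModule (fun x => by
    apply Additive.toMul.injective
    rw [toMul_nsmul, toMul_zero, pow_two]
    exact hexp _)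
  haveI : Module.Finite (ZMod 2) (Additive A) := Module.Finite.of_finite
  have hfr : Module.finrank (ZMod 2) (Fin 4 → ZMod 2) = Module.finrank (ZMod 2) (Additive A) := by
    rw [Module.finrank_pi, Fintype.card_fin]
    have h := Module.natCard_eq_pow_finrank (K := ZMod 2) (V := Additive A)
    rw [Nat.card_zmod, Nat.card_congr (Additive.toMul (α := A)), hcard] at h
    exact Nat.pow_right_injective le_rfl (show 2 ^ 4 = _ from h)
  exact ⟨AddEquiv.toMultiplicativeLeft (LinearEquiv.ofFinrankEq _ _ hfr).toAddEquiv⟩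

theorem card_mulAut_sixteen : Nat.card (MulAut ElemSixteen) ≤ 20160 := by
  haveI : Fact (Nat.Prime 2) := ⟨Nat.prime_two⟩
  have h := CfsgLib.Fusion.Bicyclic.card_mulAut_dvd_card_GL (V := ElemSixteen) (n := 4)
    (fun v => Multiplicative.toAdd.injective (funext fun _ => CharTwo.add_self_eq_zero _))
    (by rw [Nat.card_congr Multiplicative.toAdd, Nat.card_fun, Nat.card_zmod, Nat.card_fin])
  rw [Matrix.card_GL_field, Fin.prod_univ_four] at h
  simp only [ZMod.card] at h
  exact Nat.le_of_dvd (by norm_num) (h.trans (dvd_of_eq (by norm_num)))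

/-- The matrices fixing the `i`-th vector and the `i`-th linear form. -/
def fixSub (i : Fin 5) : Subgroup (Matrix.SpecialLinearGroup (Fin 5) (ZMod 2)) where
  carrier := {M | (M : Matrix (Fin 5) (Fin 5) (ZMod 2)).mulVec (Pi.single i 1) = Pi.single i 1 ∧
    Matrix.vecMul (Pi.single i 1) (M : Matrix (Fin 5) (Fin 5) (ZMod 2)) = Pi.single i 1}
  one_mem' := ⟨Matrix.one_mulVec _, Matrix.vecMul_one _⟩
  mul_mem' := by
    intro M N hM hN
    refine ⟨?_, ?_⟩
    · rw [Matrix.SpecialLinearGroup.coe_mul, ← Matrix.mulVec_mulVec, hN.1, hM.1]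
    · rw [Matrix.SpecialLinearGroup.coe_mul, ← Matrix.vecMul_vecMul, hM.2, hN.2]
  inv_mem' := by
    intro M hM
    refine ⟨?_, ?_⟩
    · conv_lhs => rw [← hM.1]
      rw [Matrix.mulVec_mulVec, ← Matrix.SpecialLinearGroup.coe_mul, inv_mul_cancel,
        Matrix.SpecialLinearGroup.coe_one, Matrix.one_mulVec]
    · conv_lhs => rw [← hM.2]
      rw [Matrix.vecMul_vecMul, ← Matrix.SpecialLinearGroup.coe_mul, mul_inv_cancel,
        Matrix.SpecialLinearGroup.coe_one, Matrix.vecMul_one]

theorem el_mem_fixSub {x : ℕ} (hx : x < 21504) (i : Fin 5) :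
    SL5.el x ∈ fixSub i ↔ fixP i x = true := by
  show (_ ∧ _) ↔ _
  rw [SL5.el_val hx, Matrix.mulVec_single_one, Matrix.single_one_vecMul]
  simp only [fixP, allBelow_spec, Bool.and_eq_true, beq_iff_eq]
  have hb : ∀ b c : Bool, (if b = true then (1 : ZMod 2) else 0) = (if c = true then 1 else 0) ↔ b = c := by decide
  have hs : ∀ j : Fin 5, (Pi.single i (1 : ZMod 2) : Fin 5 → ZMod 2) j =
      if Nat.beq j i = true then 1 else 0 := by
    intro j
    rw [Pi.single_apply]
    simp only [Nat.beq_eq, Fin.val_inj]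
  constructor
  · rintro ⟨h1, h2⟩ j hj
    have e1 := congrFun h1 ⟨j, hj⟩
    have e2 := congrFun h2 ⟨j, hj⟩
    rw [hs] at e1 e2
    exact ⟨(hb _ _).1 e1, (hb _ _).1 e2⟩
  · intro h
    constructor <;> funext j <;> rw [hs]
    · exact (hb _ _).2 (h j j.2).1
    · exact (hb _ _).2 (h j j.2).2

variable {G : Type*} [Group G] [Finite G] {t : G} (K : Coord t 0)

include K in
/-- A pure clique gives the affine group. -/
theorem affine_of_list {L : List ℕ} (i : Fin 5) (hnd : L.Nodup)
    (hL : (listOK K.mask L && actOK L) = true) (hsp : splitOK i L = true) :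
    Nonempty (AffineSixteen ≃* G) := by
  classical
  haveI : Fact (Nat.Prime 2) := ⟨Nat.prime_two⟩
  obtain ⟨A, hA, hmem⟩ := clique_of_list K hL
  simp only [splitOK, Bool.and_eq_true, List.all_eq_true, Bool.or_eq_true, Bool.not_eq_true', Nat.beq_eq,
    List.any_eq_true, allBelow_spec, Nat.blt_eq] at hsp
  obtain ⟨⟨⟨⟨hAK, hcov⟩, hcenL⟩, hgenL⟩, hlen⟩ := hsp
  have hLlt : ∀ a ∈ L, a < 21504 := fun a ha => by
    simp only [listOK, Bool.and_eq_true, List.all_eq_true, Nat.blt_eq] at hL
    exact (hL.1.1.2 a ha).1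
  have hconj : ∀ g : G, g * t * g⁻¹ ∈ A := fun g => (hA.mem _).2
    (Or.inr ⟨ExtraThirtyTwo.commute_conj hA g, (isConj_iff.2 ⟨g, rfl⟩ : IsConj t _).symm⟩)
  haveI hAn : A.Normal := ⟨fun a ha g => (hA.normalises (hconj g) a).2 ha⟩
  haveI : IsMulCommutative A := ⟨⟨fun a b => Subtype.ext (hA.comm a a.2 b b.2)⟩⟩
  have hcardA : Nat.card A = 16 := by
    have he : Function.Bijective (fun c : {c // c ∈ L.toFinset} =>
        (⟨K.el c.1, (hmem _).2 ⟨c.1, List.mem_toFinset.1 c.2, rfl⟩⟩ : A)) := by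
      refine ⟨fun c d e => Subtype.ext (K.el_inj _ (hLlt _ (List.mem_toFinset.1 c.2)) _
        (hLlt _ (List.mem_toFinset.1 d.2)) (congrArg Subtype.val e)), fun a => ?_⟩
      obtain ⟨c, hc, e⟩ := (hmem _).1 a.2
      exact ⟨⟨c, List.mem_toFinset.2 hc⟩, Subtype.ext e⟩
    rw [← Nat.card_congr (Equiv.ofBijective _ he), Nat.card_eq_finsetCard, List.toFinset_card_of_nodup hnd, hlen]
  set U := centralizer ({t} : Set G) with hU
  have hAU : A ≤ U := fun a ha => mem_centralizer_singleton_iff.2 (hA.commute_t ha).eq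
  -- the index of `C(t)`
  have hidx : U.index = 15 := by
    let f : G ⧸ U → {a : A // a ≠ 1} := Quotient.lift
      (fun g => ⟨⟨g * t * g⁻¹, hconj g⟩, fun e => hA.t1 (by
        have := congrArg Subtype.val e
        simpa using this)⟩)
      (fun g g' h => Subtype.ext (Subtype.ext (by
        have h' := mem_centralizer_singleton_iff.1 (QuotientGroup.leftRel_apply.1 h)
        show g * t * g⁻¹ = g' * t * g'⁻¹
        calc g * t * g⁻¹ = g * (t * (g⁻¹ * g')) * g'⁻¹ := by group
          _ = g' * t * g'⁻¹ := by rw [← h']; group)))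
    have hf : Function.Bijective f := by
      constructor
      · intro x y e
        induction x using Quotient.inductionOn with | h g => ?_
        induction y using Quotient.inductionOn with | h g' => ?_
        have e' : g * t * g⁻¹ = g' * t * g'⁻¹ := congrArg (fun a => ((a : {a : A // a ≠ 1}).1 : G)) e
        refine Quotient.sound (QuotientGroup.leftRel_apply.2 (mem_centralizer_singleton_iff.2 ?_))
        calc g⁻¹ * g' * t = g⁻¹ * (g' * t * g'⁻¹) * g' := by group
          _ = t * (g⁻¹ * g') := by rw [← e']; group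
      · rintro ⟨⟨a, ha⟩, ha1⟩
        obtain ⟨g, hg⟩ := isConj_iff.1 (((hA.mem a).1 ha).resolve_left fun e => ha1 (Subtype.ext e)).2.symm
        exact ⟨⟦g⟧, Subtype.ext (Subtype.ext hg)⟩
    haveI := Fintype.ofFinite A
    rw [Subgroup.index, Nat.card_congr (Equiv.ofBijective f hf), Nat.card_eq_fintype_card,
      Fintype.card_subtype_compl, Fintype.card_subtype_eq, ← Nat.card_eq_fintype_card, hcardA]
  -- the complement in `C(t)`
  obtain ⟨φ, hφ⟩ := exists_centHom K
  let Kc : Subgroup G := ((fixSub i).comap φ).map U.subtype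
  have hKmem : ∀ x, ∀ hx : x < 21504, K.el x ∈ Kc ↔ fixP i x = true := fun x hx => by
    rw [← el_mem_fixSub hx i, ← hφ x hx]
    refine ⟨?_, fun h => ⟨_, h, rfl⟩⟩
    rintro ⟨⟨y, hy⟩, hyD, (rfl : y = K.el x)⟩
    exact hyD
  have hinf : Kc ⊓ A = ⊥ := by
    refine (eq_bot_iff_forall _).2 fun g hg => ?_
    obtain ⟨c, hc, rfl⟩ := (hmem g).1 (mem_inf.1 hg).2
    rcases hAK c hc with rfl | h
    · exact K.el_zero (by norm_num)
    · rw [(hKmem c (hLlt c hc)).1 (mem_inf.1 hg).1] at h; simp at h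
  have hsup : A ⊔ Kc = U := by
    refine le_antisymm (sup_le hAU (map_subtype_le _)) (cent_le_of_std K fun k hk => ?_)
    have hs : stdC.getD k 0 ∈ stdC ∧ stdC.getD k 0 < 21504 := by interval_cases k <;> simp [stdC]
    obtain ⟨a, ha, h⟩ := hcov _ hs.1
    have he : K.el (stdC.getD k 0) = (K.el a)⁻¹ * K.el (mulC 0 a (stdC.getD k 0)) := by
      rw [← K.el_mul _ (hLlt a ha) _ hs.2, inv_mul_cancel_left]
    rw [he]
    exact mul_mem (mem_sup_left (inv_mem ((hmem _).2 ⟨a, ha, rfl⟩)))
      (mem_sup_right ((hKmem _ (mulC_lt (hLlt a ha) _)).2 h))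
  obtain ⟨H, hH⟩ := CfsgLib.Core.Gaschutz.gaschutz_exists hAU (by rw [hcardA, hidx]; norm_num) hinf hsup
  -- the action on `A`
  obtain ⟨ψ⟩ := exists_equiv_elemSixteen (A := A) (fun a => Subtype.ext (hA.sq a.2)) hcardA
  let θ : H →* MulAut ElemSixteen :=
    (MulAut.congr ψ.symm).toMonoidHom.comp ((MulAut.conjNormal (H := A)).comp H.subtype)
  have hθ : ∀ (h : H) (e : ElemSixteen), ((ψ (θ h e) : A) : G) = (h : G) * (ψ e : A) * (h : G)⁻¹ := by
    intro h e
    show ((ψ (ψ.symm (MulAut.conjNormal (h : G) (ψ e))) : A) : G) = _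
    rw [MulEquiv.apply_symm_apply, MulAut.conjNormal_apply]
  have hθi : Function.Injective θ := (injective_iff_map_eq_one θ).2 fun h he => by
    have hcomm : ∀ a ∈ A, Commute (h : G) a := fun a ha => by
      have := hθ h (ψ.symm ⟨a, ha⟩)
      rw [he, MulAut.one_apply, MulEquiv.apply_symm_apply] at this
      exact (mul_inv_eq_iff_eq_mul.1 this.symm)
    obtain ⟨x, hx, hxe⟩ := K.surj (h : G) (hcomm t hA.t_mem).eq
    rcases hcenL x hx with ⟨c, hc, e⟩ | ⟨c, hc, e⟩
    · have hxA : (h : G) ∈ A := (hmem _).2 ⟨c, hc, by rw [← hxe, e]⟩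
      exact Subtype.ext (mem_bot.1 (hH.disjoint.le_bot ⟨hxA, h.2⟩))
    · obtain ⟨hc128, d, hd, hde⟩ := hgenL c hc
      subst hde
      have := (commute_q_iff K hx hc128).1 (hxe ▸ hcomm _ ((hmem _).2 ⟨c, hd, rfl⟩))
      rw [this] at e
      simp at e
  have hcardH : Nat.card H = 20160 := by
    have h := hH.card_mul
    have hC : Nat.card U = 21504 := by
      rw [hU, ← K.card_cent]
      exact Nat.card_congr (Equiv.subtypeEquivRight fun x => mem_centralizer_singleton_iff)
    rw [← U.card_mul_index, hC, hidx, hcardA] at h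
    omega
  have hθb : Function.Bijective θ := hθi.bijective_of_nat_card_le (hcardH ▸ card_mulAut_sixteen)
  let θe := MulEquiv.ofBijective θ hθb
  let F : AffineSixteen →* G := SemidirectProduct.lift (A.subtype.comp ψ.toMonoidHom)
    (H.subtype.comp θe.symm.toMonoidHom) fun σ => MonoidHom.ext fun e => by
      show ((ψ (σ e) : A) : G) = (θe.symm σ : G) * (ψ e : A) * (θe.symm σ : G)⁻¹
      have hσ : θ (θe.symm σ) = σ := θe.apply_symm_apply σ
      rw [← hθ, hσ]
  refine ⟨MulEquiv.ofBijective F ⟨(injective_iff_map_eq_one F).2 fun x hx => ?_, fun g => ?_⟩⟩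
  · have hx' : ((ψ x.left : A) : G) * (θe.symm x.right : G) = 1 := hx
    have hm : (θe.symm x.right : G) ∈ A := by
      rw [eq_inv_of_mul_eq_one_right hx']
      exact inv_mem (ψ x.left).2
    have h1 : θe.symm x.right = 1 :=
      Subtype.ext (mem_bot.1 (hH.disjoint.le_bot ⟨hm, (θe.symm x.right).2⟩))
    rw [h1, OneMemClass.coe_one, mul_one] at hx'
    exact SemidirectProduct.ext (ψ.map_eq_one_iff.1 (Subtype.ext hx')) (θe.symm.map_eq_one_iff.1 h1)
  · obtain ⟨⟨a, h⟩, e⟩ := hH.2 g
    refine ⟨⟨ψ.symm a, θe h⟩, ?_⟩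
    show ((ψ (ψ.symm a) : A) : G) * (θe.symm (θe h) : G) = g
    rw [MulEquiv.apply_symm_apply, MulEquiv.symm_apply_apply]
    exact e

include K in
/-- The two pure cliques give the affine group. -/
theorem affine_of_mask (h : K.mask = 9 ∨ K.mask = 10) : Nonempty (AffineSixteen ≃* G) := by
  rcases h with h | h
  · exact affine_of_list K 1 (L := list9) (by decide) (by rw [h]; exact list9_ok) split9_ok
  · exact affine_of_list K 0 (L := list10) (by decide) (by rw [h]; exact list10_ok) split10_ok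

end CfsgLib.Recog.HeldTri
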