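import Cfsg.Agent.Lib.Recog.HeldTri.NonSimpleChecks
import Cfsg.Agent.Lib.Recog.HeldTri.Start
import Cfsg.Agent.Lib.Recog.HeldTri.Control

/-!
Normal subgroups of a group with the centraliser of a transvection: every non-trivial one contains the
involution, and in the patterns of the simple groups it is everything (owner: helper28).
-/

set_option autoImplicit false
set_option linter.style.haveILetI false
set_option linter.unusedSectionVars false

namespace CfsgLib.Recog.HeldTri

open Subgroup
open CfsgLib.Recog.Held CfsgLib.Recog.Held.He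
open Start NonSimple

variable {G : Type*} [Group G] [Finite G] {t : G} (K : Coord t 0)

theorem mulC_q (x : ℕ) {q : ℕ} (hq : q < 128) :
    mulC 0 x q = qMul (x % 128) (conjL 0 (x / 128) q) + 128 * (x / 128) := by
  have h0 : wordLen (q / 128) = 0 := by
    rw [Nat.div_eq_of_lt hq]; decide +kernel
  have h127 : ∀ z, Nat.land z 127 = z % 128 := fun z => Nat.and_two_pow_sub_one_eq_mod z 7
  rw [mulC, h0, h127, h127, Nat.mod_eq_of_lt hq]
  rfl

theorem mulC_q_q {p q : ℕ} (hp : p < 128) (hq : q < 128) : mulC 0 p q = qMul p q := by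
  have h := comm_ok
  simp only [commOK, Bool.and_eq_true, allBelow_spec, Nat.beq_eq] at h
  rw [mulC_q p hq, Nat.div_eq_of_lt hp, Nat.mod_eq_of_lt hp, h.1.1.2 q hq, mul_zero, add_zero]

include K in
theorem el_q_mul {p q : ℕ} (hp : p < 128) (hq : q < 128) : K.el p * K.el q = K.el (qMul p q) := by
  rw [K.el_mul _ (by omega) _ (by omega), mulC_q_q hp hq]

include K in
theorem el_split {q l : ℕ} (hq : q < 128) (hl : l < 168) :
    K.el q * K.el (128 * l) = K.el (q + 128 * l) := by
  have hs := std_ok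
  simp only [stdOK, Bool.and_eq_true, allBelow_spec, Nat.beq_eq] at hs
  rw [K.el_mul _ (by omega) _ (by omega), hs.2.2 l hl q hq]

/-- The elements with a code below `128`. -/
def qSub : Subgroup G :=
  Subgroup.closure {g | ∃ q < 128, K.el q = g}

theorem mem_qSub {g : G} : g ∈ qSub K ↔ ∃ q < 128, K.el q = g := by
  refine ⟨fun hg => ?_, fun hg => subset_closure hg⟩
  refine closure_induction (fun x hx => hx) ⟨0, by norm_num, K.el_zero (by norm_num)⟩ ?_ ?_ hg
  · rintro _ _ - - ⟨p, hp, rfl⟩ ⟨q, hq, rfl⟩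
    exact ⟨_, qMul_lt hp hq, (el_q_mul K hp hq).symm⟩
  · rintro _ - ⟨p, hp, rfl⟩
    have hn : ∀ n : ℕ, ∃ q < 128, K.el q = K.el p ^ n := by
      intro n
      induction n with
      | zero => exact ⟨0, by norm_num, by rw [pow_zero, K.el_zero (by norm_num)]⟩
      | succ n ih =>
        obtain ⟨q, hq, e⟩ := ih
        exact ⟨_, qMul_lt hq hp, by rw [pow_succ, ← e, el_q_mul K hq hp]⟩
    obtain ⟨q, hq, e⟩ := hn (orderOf (K.el p) - 1)
    refine ⟨q, hq, e.trans (eq_inv_of_mul_eq_one_left ?_)⟩
    rw [← pow_succ, Nat.sub_add_cancel (orderOf_pos _), pow_orderOf_eq_one]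

include K in
/-- `x q x⁻¹` lies in the extraspecial subgroup. -/
theorem conj_q_mem {x q : ℕ} (hx : x < 21504) (hq : q < 128) : K.el x * K.el q * (K.el x)⁻¹ ∈ qSub K := by
  have hl : x / 128 < 168 := by omega
  have hc : conjL 0 (x / 128) q < 128 := applyAut_lt _ _
  have hx' : K.el x = K.el (x % 128) * K.el (128 * (x / 128)) := by
    rw [el_split K (by omega) hl, Nat.mod_add_div]
  rw [K.el_mul _ hx _ (by omega), mulC_q x hq, ← el_split K (qMul_lt (by omega) hc) hl,
    ← el_q_mul K (by omega) hc, hx', show ∀ a b c : G, a * b * c * (a * c)⁻¹ = a * b * a⁻¹ by intros; group]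
  exact mul_mem (mul_mem ((mem_qSub K).2 ⟨_, by omega, rfl⟩) ((mem_qSub K).2 ⟨_, hc, rfl⟩))
    (inv_mem ((mem_qSub K).2 ⟨_, by omega, rfl⟩))

include K in
theorem commute_q_iff {x q : ℕ} (hx : x < 21504) (hq : q < 128) :
    Commute (K.el x) (K.el q) ↔ comQ x q = true := by
  have hl : x / 128 < 168 := by omega
  have hc : conjL 0 (x / 128) q < 128 := applyAut_lt _ _
  have h1 : qMul (x % 128) (conjL 0 (x / 128) q) < 128 := qMul_lt (by omega) hc
  have h2 : qMul q (x % 128) < 128 := qMul_lt hq (by omega)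
  rw [comQ, Nat.beq_eq]
  show K.el x * K.el q = K.el q * K.el x ↔ _
  rw [K.el_mul _ hx _ (by omega), mulC_q x hq,
    show K.el q * K.el x = K.el (qMul q (x % 128) + 128 * (x / 128)) by
      rw [← el_split K h2 hl, ← el_q_mul K hq (by omega), mul_assoc, el_split K (by omega) hl,
        Nat.mod_add_div]]
  exact ⟨fun h => by have := K.el_inj _ (by omega) _ (by omega) h; omega, fun h => by rw [h]⟩

include K in
/-- A non-trivial normal subgroup meeting `C(t)` contains `t`. -/
theorem t_mem_of_normal {N : Subgroup G} [N.Normal] {n : G} (hn : n ∈ N) (hnt : Commute n t) (hn1 : n ≠ 1) :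
    t ∈ N := by
  have hok := comm_ok
  simp only [commOK, Bool.and_eq_true, allBelow_spec, Nat.beq_eq, List.all_eq_true, Nat.blt_eq,
    Bool.or_eq_true, List.any_eq_true, Bool.not_eq_true'] at hok
  obtain ⟨⟨⟨hlt, -⟩, hq⟩, hall⟩ := hok
  have comm : ∀ a b : G, a ∈ N → a * b * a⁻¹ * b⁻¹ ∈ N := fun a b ha => by
    rw [show a * b * a⁻¹ * b⁻¹ = a * (b * a⁻¹ * b⁻¹) by group]
    exact mul_mem ha (Subgroup.Normal.conj_mem inferInstance _ (inv_mem ha) b)
  obtain ⟨x, hx, rfl⟩ := K.surj n hnt.eq
  rcases hall x hx with rfl | rfl | ⟨q, hqm, hq'⟩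
  · exact absurd (K.el_zero (by norm_num)) hn1
  · rwa [← K.el_t]
  have hq128 := hlt q hqm
  have hy : K.el x * K.el q * (K.el x)⁻¹ * (K.el q)⁻¹ ∈ qSub K :=
    mul_mem (conj_q_mem K hx hq128) (inv_mem ((mem_qSub K).2 ⟨q, hq128, rfl⟩))
  have hy1 : K.el x * K.el q * (K.el x)⁻¹ * (K.el q)⁻¹ ≠ 1 := fun e => by
    have : Commute (K.el x) (K.el q) := mul_inv_eq_iff_eq_mul.1 (mul_inv_eq_one.1 e)
    rw [commute_q_iff K hx hq128, hq'] at this
    exact Bool.false_ne_true this
  obtain ⟨p, hp, hpe⟩ := (mem_qSub K).1 hy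
  have hpN : K.el p ∈ N := hpe ▸ comm _ (K.el q) hn
  rcases hq p hp with rfl | rfl | ⟨r, hrm, hr⟩
  · exact absurd (hpe.symm.trans (K.el_zero (by norm_num))) hy1
  · rwa [← K.el_t]
  have hr128 := hlt r hrm
  have := comm _ (K.el r) hpN
  rwa [el_q_mul K hp hr128, hr, ← el_q_mul K (qMul_lt (by norm_num) hr128) hp,
    ← el_q_mul K (by norm_num) hr128, mul_inv_cancel_right, mul_inv_cancel_right, K.el_t] at this

include K in
/-- With two coloured elements with coloured product every non-trivial normal subgroup contains `t`. -/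
theorem t_mem_normal {a b : G} (ha : IsConj a t) (hb : IsConj b t) (hab : IsConj (a * b) t)
    {N : Subgroup G} [N.Normal] (hN : N ≠ ⊥) : t ∈ N := by
  by_contra h
  have hfix : ∀ u, IsConj u t → ∀ n ∈ N, Commute u n → n = 1 := by
    intro u hu n hn hun
    by_contra hn1
    obtain ⟨k, hk⟩ := isConj_iff.1 hu
    refine h (t_mem_of_normal K (Subgroup.Normal.conj_mem inferInstance n hn k) ?_ (fun e => hn1 (by simpa using e)))
    simpa only [← hk, MulAut.conj_apply] using (hun.map (MulAut.conj k)).symm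
  exact hN (eq_bot_of_four (K.inv_of_conj_t (by norm_num) ha).2 (K.inv_of_conj_t (by norm_num) hb).2
    (hfix a ha) (hfix b hb) (hfix _ hab))

include K in
theorem conj_of_col {x : ℕ} (hx : x < 21504) (h : colC K.mask x = true) : IsConj (K.el x) t := by
  rw [colC, Bool.and_eq_true, Nat.blt_eq] at h
  exact (K.mask_spec (by norm_num) hx).2 ⟨Nat.pos_iff_ne_zero.1 h.1, h.2⟩

include K in
/-- A conjugate of `t` centralised by a Sylow subgroup in `C(t)` is `t`. -/
theorem eq_t_of_sylow {P : Sylow 2 G} (hP : (P : Subgroup G) ≤ centralizer {t}) {u : G} (hu : IsConj u t)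
    (hc : ∀ y ∈ (P : Subgroup G), Commute y u) (hut : Commute u t) : u = t := by
  haveI : Fact (Nat.Prime 2) := ⟨Nat.prime_two⟩
  have hC : Nat.card (centralizer ({t} : Set G)) = 21504 := by
    rw [← K.card_cent]
    exact Nat.card_congr (Equiv.subtypeEquivRight fun x => mem_centralizer_singleton_iff)
  have h1024 : 2 ^ 10 ∣ Nat.card (P : Subgroup G) :=
    P.pow_dvd_card_of_pow_dvd_card ((hC ▸ (by norm_num : (2 : ℕ) ^ 10 ∣ 21504) :
      2 ^ 10 ∣ Nat.card (centralizer ({t} : Set G))).trans (card_subgroup_dvd_card _))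
  obtain ⟨x, hx, rfl⟩ := K.surj u hut.eq
  have hcx := (K.sq_iff (by norm_num) hx).1 (K.inv_of_conj_t (by norm_num) hu)
  obtain ⟨h, hh1, hh2⟩ := K.class_conj (by norm_num) hx hcx
  have hlt := clsOf_lt (i := 0) (by norm_num) hx
  set k := clsOf 0 x - 1 with hk0
  by_cases hk : k = ktc 0
  · rw [hk, K.rep_kt (by norm_num), hh1, mul_inv_cancel_right] at hh2
    exact hh2.symm
  exfalso
  have hb : k < ncls 0 := by omega
  have hle : Nat.card (P : Subgroup G) ∣ hsz 0 k := by
    rw [← (K.root_count (by norm_num) hb hk).2.2]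
    let S : Subgroup G := centralizer {t} ⊓ centralizer {K.el (rep 0 k)}
    have hS : Nat.card S = Nat.card {g : G // g * t = t * g ∧
        g * K.el (rep 0 k) = K.el (rep 0 k) * g} :=
      Nat.card_congr (Equiv.subtypeEquivRight fun g => by
        rw [mem_inf, mem_centralizer_singleton_iff, mem_centralizer_singleton_iff])
    rw [← hS, Nat.card_congr ((P : Subgroup G).equivMapOfInjective (MulAut.conj h⁻¹).toMonoidHom
      (MulAut.conj h⁻¹).injective).toEquiv]
    refine card_dvd_of_le ?_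
    rintro _ ⟨y, hy, rfl⟩
    have hht : Commute h t := hh1
    have hyt : Commute y t := mem_centralizer_singleton_iff.1 (hP hy)
    refine mem_inf.2 ⟨mem_centralizer_singleton_iff.2 ?_, mem_centralizer_singleton_iff.2 ?_⟩
    · exact (hht.inv_left.mul_left hyt).mul_left hht.inv_left.inv_left
    · have he : K.el (rep 0 k) = h⁻¹ * K.el x * h⁻¹⁻¹ := by rw [← hh2]; group
      rw [he]
      exact ((hc y hy).map (MulAut.conj h⁻¹)).eq
  have hs := sylow_ok
  simp only [sylowOK, allBelow_spec, Bool.or_eq_true, Nat.beq_eq, Bool.not_eq_true'] at hs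
  rcases hs _ hb with e | e
  · exact hk e
  · rw [Nat.mod_eq_zero_of_dvd (show 1024 ∣ _ from h1024.trans hle)] at e
    simp at e

include K in
/-- The patterns of the simple groups belong to simple groups. -/
theorem isSimple_of_good (hm : K.mask ∈ goodMasks) : IsSimpleGroup G := by
  haveI : Fact (Nat.Prime 2) := ⟨Nat.prime_two⟩
  have hall := List.all_eq_true.1 genCol_ok K.mask hm
  simp only [genColOK, Bool.and_eq_true, Nat.beq_eq, List.all_eq_true, Nat.blt_eq] at hall
  obtain ⟨⟨hcol, h256⟩, h3⟩ := hall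
  have col : ∀ x ∈ [1, 2, 4, 8, 16, 32, 64, 128, 11008, 11136, 3], IsConj (K.el x) t := fun x hx =>
    conj_of_col K (hcol x hx).1 (hcol x hx).2
  haveI : Nontrivial G := ⟨⟨t, 1, K.ne_one_t (by norm_num)⟩⟩
  refine ⟨fun N hN => or_iff_not_imp_left.2 fun hne => ?_⟩
  have htN : t ∈ N := t_mem_normal K (col 1 (by simp)) (col 2 (by simp)) (by
    rw [K.el_mul _ (by norm_num) _ (by norm_num), h3]; exact col 3 (by simp)) hne
  have hconj : ∀ x ∈ [1, 2, 4, 8, 16, 32, 64, 128, 11008, 11136, 3], K.el x ∈ N := fun x hx => by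
    obtain ⟨k, hk⟩ := isConj_iff.1 (col x hx).symm
    exact hk ▸ hN.conj_mem t htN k
  have hle : centralizer {t} ≤ N := by
    refine cent_le_of_std K fun k hk => ?_
    interval_cases k
    case' «8» =>
      show K.el 256 ∈ N
      rw [← h256, ← K.el_mul _ (by norm_num) _ (mulC_lt (by norm_num) _),
        ← K.el_mul _ (by norm_num) _ (by norm_num)]
      exact mul_mem (hconj 128 (by simp)) (mul_mem (hconj 11008 (by simp)) (hconj 11136 (by simp)))
    all_goals exact hconj _ (by simp [stdC])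
  obtain ⟨P, hP⟩ := sylow_in_cent K
  have htP : t ∈ (P : Subgroup G) := by
    by_contra hnot
    have hp : IsPGroup 2 (zpowers t) := IsPGroup.of_card (n := 1) (by
      rw [Nat.card_zpowers, pow_one, orderOf_eq_prime (by rw [pow_two, K.t_sq (by norm_num)])
        (K.ne_one_t (by norm_num))])
    have hn : (P : Subgroup G) ≤ normalizer (zpowers t : Set G) := fun y hy => by
      rw [mem_normalizer_iff]
      have hyt : Commute y t := mem_centralizer_singleton_iff.1 (hP hy)
      intro z
      constructor <;> intro hz <;> rw [mem_zpowers_iff] at hz ⊢ <;> obtain ⟨m, hm⟩ := hz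
      · exact ⟨m, by rw [← hm, (hyt.zpow_right m).eq, mul_inv_cancel_right]⟩
      · refine ⟨m, (MulAut.conj y).injective ?_⟩
        show y * t ^ m * y⁻¹ = y * z * y⁻¹
        rw [← hm, (hyt.zpow_right m).eq, mul_inv_cancel_right, hm]
    exact hnot (P.3 (IsPGroup.to_sup_of_normal_right' P.2 hp hn) le_sup_left ▸
      mem_sup_right (mem_zpowers t))
  have hnorm : normalizer ((P : Subgroup G) : Set G) ≤ centralizer {t} := fun g hg => by
    have hu : g * t * g⁻¹ ∈ (P : Subgroup G) := (mem_normalizer_iff.1 hg t).1 htP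
    have hc : ∀ y ∈ (P : Subgroup G), Commute y (g * t * g⁻¹) := fun y hy => by
      have hy' := (mem_normalizer_iff''.1 hg y).1 hy
      have h := (show Commute (g⁻¹ * y * g) t from mem_centralizer_singleton_iff.1 (hP hy')).map (MulAut.conj g)
      simpa [mul_assoc] using h
    have := eq_t_of_sylow K hP (isConj_iff.2 ⟨g, rfl⟩ : IsConj t _).symm hc
      (mem_centralizer_singleton_iff.1 (hP hu))
    exact mem_centralizer_singleton_iff.2 (mul_inv_eq_iff_eq_mul.1 this)
  have hPN : (P : Subgroup G) ≤ N := hP.trans hle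
  have htop := Sylow.normalizer_sup_eq_top' P hPN
  rw [← htop]
  exact le_antisymm le_sup_right (sup_le (hnorm.trans hle) le_rfl)

include K in
/-- If `t` is not isolated, the pattern is one of the two pure cliques or one of the simple groups. -/
theorem mask_cases (hnot : ∃ g : G, Commute (g * t * g⁻¹) t ∧ g * t * g⁻¹ ≠ t) :
    K.mask = 9 ∨ K.mask = 10 ∨ K.mask ∈ goodMasks := by
  have hkt := (classes_spec (i := 0) (by norm_num)).1
  have hlt : K.mask < 256 := by have := K.mask_lt; rwa [ncls_zero.1] at this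
  have h := allBelow_spec.1 mask_ok0 _ hlt
  simp only [startMaskOK, Bool.or_eq_true, Bool.not_eq_true', Nat.beq_eq, List.any_eq_true] at h
  rcases h with h | h | h | ⟨m, hm, e⟩
  · rw [(K.mask_bit hkt).2 (by rw [K.rep_kt (by norm_num)])] at h; simp at h
  · exfalso
    obtain ⟨g, hg, hne⟩ := hnot
    obtain ⟨x, hx, hxe⟩ := K.surj _ hg.eq
    obtain ⟨hc, hb⟩ := (K.mask_spec (by norm_num) hx).1 (hxe ▸ (isConj_iff.2 ⟨g, rfl⟩ : IsConj t _).symm)
    rw [bitOn_iff, h, Nat.testBit_two_pow, decide_eq_true_eq] at hb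
    obtain ⟨k, hk1, hk2⟩ := K.class_conj (by norm_num) hx hc
    rw [← hb, K.rep_kt (by norm_num), hk1, mul_inv_cancel_right] at hk2
    exact hne (by rw [← hxe, ← hk2])
  · rw [K.reversible_mask (by norm_num)] at h; simp at h
  · simp only [List.mem_cons, List.not_mem_nil, or_false] at hm
    rcases hm with rfl | rfl | rfl | rfl | rfl | rfl <;> rw [e] <;> decide

end CfsgLib.Recog.HeldTri
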