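import Cfsg.Agent.Lib.Recog.HeldTri.StartChecks
import Cfsg.Agent.Lib.Recog.Held.SLCoordDefs
import Cfsg.Agent.Lib.Recog.Held.LocalFusDefs
import Cfsg.Agent.Lib.Recog.Held.LocalGen

/-!
Kernel checks for the groups with the centraliser of a transvection that are not assumed simple
(owner: helper28).
-/

set_option autoImplicit false
set_option maxRecDepth 100000

namespace CfsgLib.Recog.HeldTri.NonSimple

open CfsgLib.Recog.Held CfsgLib.Recog.Held.He CfsgLib.Recog.HeldTri.Start

/-- Six generators of the extraspecial subgroup. -/
def qGens : List ℕ := [1, 2, 4, 8, 16, 32]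

/-- `x` commutes with the element `q` of the extraspecial subgroup. -/
noncomputable def comQ (x q : ℕ) : Bool :=
  Nat.beq (qMul (x % 128) (conjL 0 (x / 128) q)) (qMul q (x % 128))

/-- An element other than `1` and `t` has a non-trivial commutator with one of the generators of `Q`. -/
noncomputable def commOK : Bool :=
  qGens.all (fun q => Nat.blt q 128) &&
    allBelow 128 (fun p => Nat.beq (conjL 0 0 p) p) &&
    allBelow 128 (fun p => Nat.beq p 0 || (Nat.beq p 64 || qGens.any fun q =>
      Nat.beq (qMul p q) (qMul (qMul 64 q) p))) &&
    allBelow 21504 (fun x => Nat.beq x 0 || (Nat.beq x 64 || qGens.any fun q => !comQ x q))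

/-- The standard codes are products of coloured elements. -/
noncomputable def genColOK (m : ℕ) : Bool :=
  [1, 2, 4, 8, 16, 32, 64, 128, 11008, 11136, 3].all (fun x => Nat.blt x 21504 && colC m x) &&
    Nat.beq (mulC 0 128 (mulC 0 11008 11136)) 256 && Nat.beq (mulC 0 1 2) 3

/-- The matrix fixes the `i`-th vector and the `i`-th linear form. -/
noncomputable def fixP (i x : ℕ) : Bool :=
  allBelow 5 fun j => ((field 5 (slMat x) j).testBit i == Nat.beq j i) &&
    ((field 5 (slMat x) i).testBit j == Nat.beq j i)

/-- The elements fixed by the predicate are a complement of the clique in `C(t)`, which centralises only the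
clique. -/
noncomputable def splitOK (i : ℕ) (L : List ℕ) : Bool :=
  L.all (fun a => Nat.beq a 0 || !fixP i a) &&
    stdC.all (fun c => L.any fun a => fixP i (mulC 0 a c)) &&
    allBelow 21504 (fun x => L.any (Nat.beq x) || [L.getD 1 0, L.getD 2 0, L.getD 4 0].any fun a => !comQ x a) &&
    [L.getD 1 0, L.getD 2 0, L.getD 4 0].all (fun a => Nat.blt a 128 && L.any (Nat.beq a)) &&
    Nat.beq L.length 16

theorem comm_ok : commOK = true := by decide +kernel

theorem genCol_ok : [27, 59, 91, 123].all genColOK = true := by decide +kernel

theorem split9_ok : splitOK 1 list9 = true := by decide +kernel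

theorem split10_ok : splitOK 0 list10 = true := by decide +kernel

end CfsgLib.Recog.HeldTri.NonSimple
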