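import Cfsg.Agent.Lib.Recog.HeldTri.Control
import Cfsg.Agent.Lib.ZStar.Main

/-!
# The pure four-group in the centraliser of the second involution (owner: helper25)

`S = C(t) ∩ C(y)` is then a Sylow 2-subgroup of `C(y)`, the image of `v` is isolated in `C(y)/⟨y⟩` because the
fusion of every element moving a conjugate of `t` is known, and Glauberman's theorem makes `⟨y, v⟩` normal.
-/

set_option autoImplicit false
set_option linter.unusedSectionVars false
set_option linter.style.haveILetI false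

namespace CfsgLib.Recog.HeldTri

open Subgroup

variable {G : Type*} [Group G]

/-- The local facts around `t`, `y` and the pure four-group `⟨y, v⟩`. -/
structure Local (t y v : G) (S : Subgroup G) : Prop where
  y2 : y * y = 1
  eqS : centralizer ({t} : Set G) ⊓ centralizer ({y} : Set G) = S
  cty : Commute t y
  pS : IsPGroup 2 S
  pT : ∀ u, Commute u y → IsConj u t →
    IsPGroup 2 (centralizer ({u} : Set G) ⊓ centralizer ({y} : Set G) : Subgroup G)
  zS : ∀ u ∈ S, IsConj u t → (∀ s ∈ S, Commute s u) → u = t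
  four : ∃ a ∈ S, ∃ b ∈ S, Commute a b ∧ IsConj a t ∧ IsConj b t ∧ IsConj (a * b) t ∧
    a * a = 1 ∧ b * b = 1
  vS : v ∈ S
  v2 : v * v = 1
  v1 : v ≠ 1
  vy : v ≠ y
  sv : ∀ s ∈ S, s * v * s⁻¹ = v ∨ s * v * s⁻¹ = v * y
  sw : ∃ σ ∈ S, σ * v * σ⁻¹ = v * y
  fus : ∀ u ∈ S, IsConj u t → ∀ k, Commute k y → k * u * k⁻¹ = t →
    k * v * k⁻¹ = v ∨ k * v * k⁻¹ = v * y

namespace Local

variable [Finite G] {t y v : G} {S : Subgroup G} (hL : Local t y v S)
include hL

theorem mem_S {s : G} : s ∈ S ↔ Commute s t ∧ Commute s y := by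
  rw [← hL.eqS, mem_inf, mem_centralizer_singleton_iff, mem_centralizer_singleton_iff]
  exact Iff.rfl

theorem y_mem : y ∈ S := hL.mem_S.2 ⟨hL.cty.symm, Commute.refl y⟩

theorem t_mem : t ∈ S := hL.mem_S.2 ⟨Commute.refl t, hL.cty⟩

theorem le_X : S ≤ centralizer ({y} : Set G) := fun _ hs =>
  mem_centralizer_singleton_iff.2 (hL.mem_S.1 hs).2.eq

/-- `S` is a Sylow 2-subgroup of the centraliser of `y`. -/
theorem exists_sylow : ∃ P : Sylow 2 (centralizer ({y} : Set G)),
    (P : Subgroup (centralizer ({y} : Set G))) = S.subgroupOf (centralizer ({y} : Set G)) := by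
  haveI : Fact (Nat.Prime 2) := ⟨Nat.prime_two⟩
  set X := centralizer ({y} : Set G)
  have hp : IsPGroup 2 (S.subgroupOf X) :=
    hL.pS.of_equiv (subgroupOfEquivOfLe hL.le_X).symm
  obtain ⟨P, hP⟩ := hp.exists_le_sylow
  refine ⟨P, le_antisymm ?_ hP⟩
  by_contra hne
  haveI : Group.IsNilpotent (P : Subgroup X) := P.isPGroup'.isNilpotent
  have hlt : (S.subgroupOf X).subgroupOf (P : Subgroup X) < ⊤ :=
    lt_top_iff_ne_top.2 fun h => hne (subgroupOf_eq_top.1 h)
  obtain ⟨g, hgN, hgS⟩ := SetLike.exists_of_lt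
    (Group.normalizerCondition_of_isNilpotent _ hlt)
  refine hgS (mem_subgroupOf.2 (mem_subgroupOf.2 ?_))
  obtain ⟨g', hg'⟩ : ∃ g' : G, g' = ((g : X) : G) := ⟨_, rfl⟩
  rw [← hg']
  have hgy : Commute g' y := hg' ▸ mem_centralizer_singleton_iff.1 (g : X).2
  have hconj : ∀ s ∈ S, g'⁻¹ * s * g' ∈ S ∧ g' * s * g'⁻¹ ∈ S := by
    intro s hs
    have hsP : (⟨s, hL.le_X hs⟩ : X) ∈ (P : Subgroup X) := hP (mem_subgroupOf.2 hs)
    have h1 := mem_normalizer_iff''.1 hgN ⟨_, hsP⟩
    have h2 := mem_normalizer_iff.1 hgN ⟨_, hsP⟩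
    simp only [mem_subgroupOf, Subgroup.coe_mul, Subgroup.coe_inv, ← hg'] at h1 h2
    exact ⟨h1.1 hs, h2.1 hs⟩
  refine hL.mem_S.2 ⟨(mul_inv_eq_iff_eq_mul.1 (hL.zS _ (hconj t hL.t_mem).2
    (isConj_iff.2 ⟨g', rfl⟩ : IsConj t _).symm fun s hs => ?_) : g' * t = t * g'), hgy⟩
  have h := ((hL.mem_S.1 (hconj s hs).1).1).eq
  calc s * (g' * t * g'⁻¹) = g' * (g'⁻¹ * s * g' * t) * g'⁻¹ := by group
    _ = g' * t * g'⁻¹ * s := by rw [h]; group

/-- Every element centralising `y` normalises `⟨y, v⟩`. -/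
theorem conj_v {g : G} (hg : Commute g y) : g * v * g⁻¹ = v ∨ g * v * g⁻¹ = v * y := by
  classical
  haveI : Fact (Nat.Prime 2) := ⟨Nat.prime_two⟩
  set X := centralizer ({y} : Set G) with hX
  let Y : X := ⟨y, mem_centralizer_singleton_iff.2 rfl⟩
  haveI : (zpowers Y).Normal := ⟨fun n hn x => by
    have hc : Commute x Y := Subtype.ext (mem_centralizer_singleton_iff.1 x.2)
    obtain ⟨k, rfl⟩ := mem_zpowers_iff.1 hn
    rw [(hc.zpow_right k).eq, mul_inv_cancel_right]
    exact hn⟩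
  obtain ⟨P, hP⟩ := hL.exists_sylow
  let π := QuotientGroup.mk' (zpowers Y)
  have hπ : ∀ a b : X, π a = π b ↔ (b : G) = a ∨ (b : G) = a * y := by
    intro a b
    rw [show π a = π b ↔ a⁻¹ * b ∈ zpowers Y from QuotientGroup.eq]
    constructor
    · intro h
      obtain ⟨k, hk⟩ := mem_zpowers_iff.1 h
      have hb : (b : G) = a * y ^ k := by
        have := congrArg Subtype.val hk
        rw [Subgroup.coe_zpow, Subgroup.coe_mul, Subgroup.coe_inv] at this
        rw [this, mul_inv_cancel_left]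
      rcases Int.even_or_odd k with ⟨j, rfl⟩ | ⟨j, rfl⟩
      · left
        rw [hb, ← two_mul, zpow_mul, zpow_two, hL.y2, one_zpow, mul_one]
      · right
        rw [hb, zpow_add, zpow_mul, zpow_two, hL.y2, one_zpow, one_mul, zpow_one]
    · rintro (h | h)
      · rw [show b = a from Subtype.ext h, inv_mul_cancel]; exact one_mem _
      · rw [show b = a * Y from Subtype.ext h, inv_mul_cancel_left]; exact mem_zpowers Y
  have hπ1 : ∀ a : X, π a = 1 ↔ (a : G) = 1 ∨ (a : G) = y := by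
    intro a
    rw [← map_one π, eq_comm (a := π a), hπ, OneMemClass.coe_one, one_mul]
  let Q : Sylow 2 (X ⧸ zpowers Y) := P.mapSurjective (QuotientGroup.mk'_surjective _)
  have hQ : ∀ a : X, π a ∈ Q → (a : G) ∈ S := by
    intro a ha
    change π a ∈ Subgroup.map π (P : Subgroup X) at ha
    obtain ⟨b, hb, hba⟩ := mem_map.1 ha
    rw [hP, mem_subgroupOf] at hb
    rcases (hπ b a).1 hba with h | h
    · rw [h]; exact hb
    · rw [h]; exact mul_mem hb hL.y_mem
  have hSQ : ∀ (a : X), (a : G) ∈ S → π a ∈ Q := fun a ha =>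
    mem_map_of_mem π (hP ▸ mem_subgroupOf.2 ha : a ∈ (P : Subgroup X))
  obtain ⟨V, hV⟩ : ∃ V : X, (V : G) = v := ⟨⟨v, hL.le_X hL.vS⟩, rfl⟩
  have hiso : ∀ x, x * π V * x⁻¹ ∈ Q → x * π V * x⁻¹ = π V := by
    intro x hx
    obtain ⟨x, rfl⟩ := QuotientGroup.mk'_surjective _ x
    rw [← map_inv, ← map_mul, ← map_mul] at hx ⊢
    obtain ⟨w, hw⟩ : ∃ w : X, w = x * V * x⁻¹ := ⟨_, rfl⟩
    rw [← hw] at hx ⊢
    have hwS : (w : G) ∈ S := hQ w hx
    let T : X := ⟨t, mem_centralizer_singleton_iff.2 hL.cty.eq⟩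
    let D := (centralizer ({π w} : Set (X ⧸ zpowers Y))).comap π
    have hTD : T ∈ D := mem_comap.2 (mem_centralizer_singleton_iff.2 (by
      rw [← map_mul, ← map_mul]
      exact congrArg π (Subtype.ext (hL.mem_S.1 hwS).1.symm.eq)))
    have hPD : ((x • P : Sylow 2 X) : Subgroup X) ≤ D := by
      intro d hd
      rw [Sylow.coe_subgroup_smul] at hd
      obtain ⟨s, hs, rfl⟩ := hd
      rw [SetLike.mem_coe, hP, mem_subgroupOf] at hs
      refine mem_comap.2 (mem_centralizer_singleton_iff.2 ?_)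
      have hsv : π s * π V = π V * π s := by
        rw [← map_mul, ← map_mul, hπ]
        simp only [Subgroup.coe_mul, hV]
        rcases hL.sv _ hs with h | h
        · left; exact (mul_inv_eq_iff_eq_mul.1 h).symm
        · right
          rw [mul_inv_eq_iff_eq_mul.1 h, mul_assoc v y, ← (hL.mem_S.1 hs).2.eq, mul_assoc v, mul_assoc,
            hL.y2, mul_one]
      simp only [MulDistribMulAction.toMonoidEnd_apply, MulDistribMulAction.toMonoidHom_apply,
        MulAut.smul_def, MulAut.conj_apply, hw, map_mul, map_inv]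
      calc π x * π s * (π x)⁻¹ * (π x * π V * (π x)⁻¹) = π x * (π s * π V) * (π x)⁻¹ := by group
        _ = π x * (π V * π s) * (π x)⁻¹ := by rw [hsv]
        _ = _ := by group
    obtain ⟨R, hR⟩ : ∃ R : Sylow 2 D, (⟨T, hTD⟩ : D) ∈ (R : Subgroup D) := by
      have hT2 : IsPGroup 2 (zpowers (⟨T, hTD⟩ : D)) := by
        intro z
        obtain ⟨k, hk⟩ := hL.pS ⟨t, hL.t_mem⟩
        refine ⟨k, ?_⟩
        obtain ⟨j, hj⟩ := mem_zpowers_iff.1 z.2
        refine Subtype.ext ?_
        rw [Subgroup.coe_pow, ← hj, ← zpow_natCast, ← zpow_mul, mul_comm, zpow_mul, zpow_natCast]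
        have : (⟨T, hTD⟩ : D) ^ 2 ^ k = 1 := Subtype.ext (Subtype.ext (congrArg Subtype.val hk :
          t ^ 2 ^ k = 1))
        rw [this, one_zpow, Subgroup.coe_one]
      obtain ⟨R, hR⟩ := hT2.exists_le_sylow
      exact ⟨R, hR (mem_zpowers _)⟩
    obtain ⟨c, hc⟩ := MulAction.exists_smul_eq D R ((x • P : Sylow 2 X).subtype hPD)
    have hmem : ((c : D) * ⟨T, hTD⟩ * c⁻¹ : D) ∈ ((x • P : Sylow 2 X).subtype hPD : Subgroup D) := by
      rw [← hc, Sylow.coe_subgroup_smul]
      exact ⟨_, hR, by simp [MulAut.smul_def]⟩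
    rw [Sylow.coe_subtype, mem_subgroupOf, Sylow.coe_subgroup_smul] at hmem
    obtain ⟨s, hs, hsx⟩ := hmem
    rw [SetLike.mem_coe, hP, mem_subgroupOf] at hs
    simp only [MulDistribMulAction.toMonoidEnd_apply, MulDistribMulAction.toMonoidHom_apply,
      MulAut.smul_def, MulAut.conj_apply, Subgroup.coe_mul, Subgroup.coe_inv] at hsx
    have hsx' : (x : G) * s * (x : G)⁻¹ = ((c : X) : G) * t * ((c : X) : G)⁻¹ := congrArg Subtype.val hsx
    obtain ⟨k, hk⟩ : ∃ k : X, k = (c : X)⁻¹ * x := ⟨_, rfl⟩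
    have hks : (k : G) * s * (k : G)⁻¹ = t := by
      rw [hk, Subgroup.coe_mul, Subgroup.coe_inv]
      calc ((c : X) : G)⁻¹ * x * s * (((c : X) : G)⁻¹ * x)⁻¹
          = ((c : X) : G)⁻¹ * (x * s * (x : G)⁻¹) * ((c : X) : G) := by group
        _ = t := by rw [hsx']; group
    have hkv := hL.fus s hs (isConj_iff.2 ⟨(k : G), hks⟩) k
      (mem_centralizer_singleton_iff.1 k.2) hks
    have hcD := mem_centralizer_singleton_iff.1 (mem_comap.1 c.2)
    have e1 : π w = π (k * V * k⁻¹) := by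
      rw [hk, hw]
      simp only [map_mul, map_inv]
      rw [hw, map_mul, map_mul, map_inv] at hcD
      calc π x * π V * (π x)⁻¹ = (π (c : X))⁻¹ * (π (c : X) * (π x * π V * (π x)⁻¹)) := by group
        _ = (π (c : X))⁻¹ * (π x * π V * (π x)⁻¹ * π (c : X)) := by rw [hcD]
        _ = _ := by group
    rw [e1, eq_comm, hπ]
    simp only [Subgroup.coe_mul, Subgroup.coe_inv, hV]
    exact hkv
  have hV2 : orderOf (π V) = 2 := by
    refine orderOf_eq_prime ?_ fun h => ?_
    · rw [pow_two, ← map_mul, hπ1]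
      exact Or.inl (by rw [Subgroup.coe_mul, hV, hL.v2])
    · rcases (hπ1 V).1 h with h | h
      · exact hL.v1 (hV ▸ h)
      · exact hL.vy (hV ▸ h)
  have hbot : Cfsg.oddCore (X ⧸ zpowers Y) = ⊥ := by
    have hodd := CfsgLib.ZStar.odd_card_oddCore (X ⧸ zpowers Y)
    obtain ⟨a, ha, b, hb, hab, hat, hbt, habt, ha2, hb2⟩ := hL.four
    have hfix : ∀ A : X, IsConj (A : G) t → ∀ n ∈ Cfsg.oddCore (X ⧸ zpowers Y),
        Commute (π A) n → n = 1 := by
      intro A hA n hn hc
      obtain ⟨m, rfl⟩ := QuotientGroup.mk'_surjective _ n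
      have hAy : Commute (A : G) y := mem_centralizer_singleton_iff.1 A.2
      have hmy : Commute (m : G) y := mem_centralizer_singleton_iff.1 m.2
      have hc' : π (m * A) = π (A * m) := by rw [map_mul, map_mul, hc.eq]
      have hm2 : Commute ((m : G) * m) A := by
        rcases (hπ _ _).1 hc' with h | h <;> simp only [Subgroup.coe_mul] at h
        · exact ((show Commute (m : G) A from h.symm)).mul_left h.symm
        · refine Eq.symm ?_
          calc (A : G) * (m * m) = A * m * m := by rw [mul_assoc]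
            _ = m * A * (y * m) := by rw [h, mul_assoc]
            _ = m * A * m * y := by rw [← hmy.eq, ← mul_assoc]
            _ = m * (m * A * y) * y := by rw [mul_assoc (m : G) A m, h]
            _ = m * m * A := by simp only [mul_assoc, hL.y2, mul_one]
      obtain ⟨j, hj⟩ := hL.pT _ hAy hA ⟨(m : G) * m, mem_inf.2 ⟨mem_centralizer_singleton_iff.2 hm2.eq,
        mem_centralizer_singleton_iff.2 (hmy.mul_left hmy).eq⟩⟩
      have hj' : ((m : G) * m) ^ 2 ^ j = 1 := congrArg Subtype.val hj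
      have h1 : (π m) ^ 2 ^ (j + 1) = 1 := by
        rw [← map_pow, hπ1]
        refine Or.inl ?_
        rw [Subgroup.coe_pow, pow_succ', pow_mul, pow_two]
        exact hj'
      obtain ⟨i, -, hi⟩ := (Nat.dvd_prime_pow Nat.prime_two).1 (orderOf_dvd_of_pow_eq_one h1)
      have ho : Odd (orderOf (π m)) := by
        have hd := orderOf_dvd_natCard (⟨π m, hn⟩ : Cfsg.oddCore (X ⧸ zpowers Y))
        rw [Subgroup.orderOf_mk] at hd
        exact hodd.of_dvd_nat hd
      rw [hi] at ho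
      rcases i with _ | i
      · rwa [pow_zero, orderOf_eq_one_iff] at hi
      · exact absurd ho (Nat.not_odd_iff_even.2 (by simp [Nat.even_pow]))
    refine eq_bot_of_four (a := π ⟨a, hL.le_X ha⟩) (b := π ⟨b, hL.le_X hb⟩) ?_ ?_ (hfix _ hat) (hfix _ hbt) ?_
    · rw [← map_mul, hπ1]; exact Or.inl ha2
    · rw [← map_mul, hπ1]; exact Or.inl hb2
    · rw [← map_mul]; exact hfix _ habt
  obtain ⟨Z, hZ⟩ : ∃ Z : X, (Z : G) = g := ⟨⟨g, mem_centralizer_singleton_iff.2 hg.eq⟩, rfl⟩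
  have hcen := CfsgLib.ZStar.mem_oddCore_of_sylow Q hV2 (hSQ V (hV ▸ hL.vS)) hiso (π Z)
  rw [hbot, mem_bot, mul_inv_eq_one, mul_inv_eq_iff_eq_mul, ← map_mul, ← map_mul] at hcen
  have h := (hπ _ _).1 hcen
  simp only [Subgroup.coe_mul, hV, hZ] at h
  rcases h with h | h
  · left; exact mul_inv_eq_iff_eq_mul.2 h
  · right
    rw [mul_inv_eq_iff_eq_mul, h, mul_assoc v g y, hg.eq, ← mul_assoc]

/-- It suffices that the centraliser of the four-group lies in `H`. -/
theorem centralizer_le {H : Subgroup G} (hS : S ≤ H)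
    (hVH : centralizer ({y} : Set G) ⊓ centralizer ({v} : Set G) ≤ H) : centralizer ({y} : Set G) ≤ H := by
  intro g hg
  have hg' : Commute g y := mem_centralizer_singleton_iff.1 hg
  rcases hL.conj_v hg' with h | h
  · exact hVH (mem_inf.2 ⟨hg, mem_centralizer_singleton_iff.2 (mul_inv_eq_iff_eq_mul.1 h)⟩)
  · obtain ⟨σ, hσ, hσv⟩ := hL.sw
    have hc : σ⁻¹ * g * v * (σ⁻¹ * g)⁻¹ = v := by
      calc σ⁻¹ * g * v * (σ⁻¹ * g)⁻¹ = σ⁻¹ * (g * v * g⁻¹) * σ := by group
        _ = v := by rw [h, ← hσv]; group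
    have hσy : Commute σ y := (hL.mem_S.1 hσ).2
    have := mul_mem (hS hσ) (hVH (mem_inf.2 ⟨mem_centralizer_singleton_iff.2
      (hσy.inv_left.mul_left hg').eq, mem_centralizer_singleton_iff.2 (mul_inv_eq_iff_eq_mul.1 hc)⟩))
    rwa [mul_inv_cancel_left] at this

end Local

end CfsgLib.Recog.HeldTri
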