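import Cfsg.Agent.Lib.Recog.Held.LocalOrder
import Cfsg.Agent.Lib.Recog.Held.LocalOrderSigma

/-!
# Two groups with one pattern are isomorphic (owner: helper22)

The pairs of the five letters of two groups satisfy the relators, so the subgroup they generate in the product
has the order of either group.
-/

set_option autoImplicit false
set_option maxRecDepth 4000

namespace CfsgLib.Recog.HeldTri

open Subgroup
open CfsgLib.Recog.Held CfsgLib.Recog.Held.SideHyp

variable {G H : Type*} [Group G] [Group H]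

/-- A subgroup of a product of the order of both factors, with full projections, gives an isomorphism. -/
theorem nonempty_equiv_of_pairs [Finite G] [Finite H] {a : ℕ → G} {b : ℕ → H}
    (ha : closure {g | ∃ x < 5, g = a x} = ⊤) (hb : closure {g | ∃ x < 5, g = b x} = ⊤)
    (hG : Nat.card (closure {g : G × H | ∃ x < 5, g = (a x, b x)}) = Nat.card G)
    (hH : Nat.card (closure {g : G × H | ∃ x < 5, g = (a x, b x)}) = Nat.card H) : Nonempty (G ≃* H) := by
  set D := closure {g : G × H | ∃ x < 5, g = (a x, b x)}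
  have h1 : Function.Bijective ((MonoidHom.fst G H).comp D.subtype) := by
    refine (Nat.bijective_iff_surjective_and_card _).2 ⟨MonoidHom.range_eq_top.1 (top_le_iff.1 (ha ▸
      (closure_le _).2 ?_)), hG⟩
    rintro _ ⟨x, hx, rfl⟩
    exact ⟨⟨_, subset_closure ⟨x, hx, rfl⟩⟩, rfl⟩
  have h2 : Function.Bijective ((MonoidHom.snd G H).comp D.subtype) := by
    refine (Nat.bijective_iff_surjective_and_card _).2 ⟨MonoidHom.range_eq_top.1 (top_le_iff.1 (hb ▸
      (closure_le _).2 ?_)), hH⟩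
    rintro _ ⟨x, hx, rfl⟩
    exact ⟨⟨_, subset_closure ⟨x, hx, rfl⟩⟩, rfl⟩
  exact ⟨(MulEquiv.ofBijective _ h1).symm.trans (MulEquiv.ofBijective _ h2)⟩

theorem list_prod_pair (a : ℕ → G) (b : ℕ → H) : ∀ w : List ℕ,
    (w.map fun x => (a x, b x)).prod = ((w.map a).prod, (w.map b).prod)
  | [] => rfl
  | x :: w => by simp only [List.map_cons, List.prod_cons, list_prod_pair a b w]; rfl

variable [Finite G] [Finite H] {t : G} {t' : H} {K : Coord t 0} {K' : Coord t' 0}

/-- Two groups with the pattern of `L5(2)`. -/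
theorem iso_27 [IsSimpleGroup G] [IsSimpleGroup H]
    (hS : ∃ Q : Sylow 2 G, (Q : Subgroup G) ≤ centralizer {t}) (hm : K.mask = 27)
    (hS' : ∃ Q : Sylow 2 H, (Q : Subgroup H) ≤ centralizer {t'}) (hm' : K'.mask = 27) : Nonempty (G ≃* H) := by
  obtain ⟨hG, m, hr, htop⟩ := order_27 hS hm
  obtain ⟨hH, m', hr', htop'⟩ := order_27 hS' hm'
  let a : ℕ → G × H := fun x => (letters K glue27 m x, letters K' glue27 m' x)
  have hrel : ∀ w ∈ relsL5, (w.map a).prod = 1 := fun w hw => by
    rw [list_prod_pair, hr w hw, hr' w hw]; rfl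
  have inv : ∀ x < 5, a x * a x = 1 := fun x hx => by
    have hmem : ∀ y < 5, [y, y] ∈ SporBound.HeldL5.cert.rels := by decide +kernel
    simpa using hrel [x, x] (hmem x hx)
  have hl := lettersOK_27
  simp only [lettersOK, Bool.and_eq_true, allBelow_spec, Nat.blt_eq, List.all_eq_true] at hl
  obtain ⟨hcg, -⟩ := hl
  -- the graph of the isomorphism of the centralisers
  let C : Subgroup (G × H) := closure {g | ∃ x < 4, g = a x}
  have hgraph : ∀ p ∈ C, ∃ c < 21504, p = (K.el c, K'.el c) := by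
    intro p hp
    induction hp using closure_induction_right with
    | one => exact ⟨0, by norm_num, by rw [K.el_zero (by norm_num), K'.el_zero (by norm_num)]; rfl⟩
    | mul_right p _ y hy ih =>
      obtain ⟨c, hc, rfl⟩ := ih
      obtain ⟨x, hx, rfl⟩ := hy
      exact ⟨_, mulC_lt (i := 0) hc (glue27.cg.getD x 0), by
        simp only [a, letters, if_pos hx, Prod.mk_mul_mk, K.el_mul _ hc _ (hcg x hx), K'.el_mul _ hc _ (hcg x hx)]⟩
    | mul_inv_cancel p _ y hy ih =>
      obtain ⟨c, hc, rfl⟩ := ih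
      obtain ⟨x, hx, rfl⟩ := hy
      rw [inv_eq_of_mul_eq_one_right (inv x (by omega))]
      exact ⟨_, mulC_lt (i := 0) hc (glue27.cg.getD x 0), by
        simp only [a, letters, if_pos hx, Prod.mk_mul_mk, K.el_mul _ hc _ (hcg x hx), K'.el_mul _ hc _ (hcg x hx)]⟩
  have hC : Nat.card C = 21504 := by
    have hcard : Nat.card (centralizer ({t} : Set G)) = 21504 := by
      rw [← K.card_cent]
      exact Nat.card_congr (Equiv.subtypeEquivRight fun x => mem_centralizer_singleton_iff)
    have hbij : Set.BijOn Prod.fst (C : Set (G × H)) (centralizer ({t} : Set G) : Set G) := by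
      refine ⟨fun p hp => ?_, fun p hp q hq e => ?_, fun g hg => ?_⟩
      · obtain ⟨c, hc, rfl⟩ := hgraph p hp
        exact mem_centralizer_singleton_iff.2 (K.mem c hc)
      · obtain ⟨c, hc, rfl⟩ := hgraph p hp
        obtain ⟨d, hd, rfl⟩ := hgraph q hq
        obtain rfl := K.el_inj c hc d hd e
        rfl
      · rw [← closure_eq_cent K gen_ok27] at hg
        have hmap : g ∈ C.map (MonoidHom.fst G H) := by
          rw [MonoidHom.map_closure]
          refine closure_mono ?_ hg
          rintro _ ⟨x, hx, rfl⟩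
          exact ⟨a x, ⟨x, hx, rfl⟩, if_pos hx⟩
        obtain ⟨p, hp, rfl⟩ := hmap
        exact ⟨p, hp, rfl⟩
    rw [← hcard]
    exact Nat.card_congr hbij.equiv
  have hle : C ≤ closure {g | ∃ x < 5, g = a x} := closure_mono fun g ⟨x, hx, e⟩ => ⟨x, by omega, e⟩
  have hD : Nat.card (closure {g | ∃ x < 5, g = a x}) = 9999360 := by
    refine enum_l5 a inv hrel C rfl hC ?_
    have hsurj : Nat.card G ≤ Nat.card (closure {g | ∃ x < 5, g = a x}) := by
      refine Nat.card_le_card_of_surjective (fun p => (p : G × H).1) fun g => ?_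
      have hg : g ∈ (closure {g | ∃ x < 5, g = a x}).map (MonoidHom.fst G H) := by
        rw [MonoidHom.map_closure]
        refine closure_mono ?_ (htop ▸ mem_top g : g ∈ closure {g | ∃ x < 5, g = letters K glue27 m x})
        rintro _ ⟨x, hx, rfl⟩
        exact ⟨a x, ⟨x, hx, rfl⟩, rfl⟩
      obtain ⟨p, hp, rfl⟩ := hg
      exact ⟨⟨p, hp⟩, rfl⟩
    have hmul : C.relIndex (closure {g | ∃ x < 5, g = a x}) * Nat.card C =
        Nat.card (closure {g | ∃ x < 5, g = a x}) := by
      rw [← (C.subgroupOf (closure {g | ∃ x < 5, g = a x})).index_mul_card,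
        Nat.card_congr (subgroupOfEquivOfLe hle).toEquiv]
      rfl
    rw [hC] at hmul
    omega
  exact nonempty_equiv_of_pairs (a := letters K glue27 m) (b := letters K' glue27 m') htop htop'
    (hD.trans hG.symm) (hD.trans hH.symm)

/-- Two groups with the pattern of `M24`. -/
theorem iso_91 [IsSimpleGroup G] [IsSimpleGroup H]
    (hS : ∃ Q : Sylow 2 G, (Q : Subgroup G) ≤ centralizer {t}) (hm : K.mask = 91)
    (hS' : ∃ Q : Sylow 2 H, (Q : Subgroup H) ≤ centralizer {t'}) (hm' : K'.mask = 91) : Nonempty (G ≃* H) := by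
  obtain ⟨hA, hB⟩ := sideHyps_91 K hS hm
  obtain ⟨m, pA, pB, g⟩ := exists_glued_91 K hS hm
  have htop : closure {g | ∃ x < 5, g = letters K glue91 m x} = ⊤ := (pattern_91 hA hB g hm).eq_top hS
  obtain ⟨hA', hB'⟩ := sideHyps_91 K' hS' hm'
  obtain ⟨m', pA', pB', g'⟩ := exists_glued_91 K' hS' hm'
  have htop' : closure {g | ∃ x < 5, g = letters K' glue91 m' x} = ⊤ := (pattern_91 hA' hB' g' hm').eq_top hS'
  let a : ℕ → G × H := fun x => (letters K glue91 m x, letters K' glue91 m' x)
  have hrel : ∀ w ∈ relsM24, (w.map a).prod = 1 := fun w hw => by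
    rw [list_prod_pair, (Glued.rels_91 K g hA hB).2 w hw, (Glued.rels_91 K' g' hA' hB').2 w hw]; rfl
  have inv : ∀ x < 5, a x * a x = 1 := fun x hx =>
    Prod.ext ((Glued.rels_91 K g hA hB).1 x hx) ((Glued.rels_91 K' g' hA' hB').1 x hx)
  have hl := lettersOK_91
  simp only [lettersOK, Bool.and_eq_true, allBelow_spec, Nat.blt_eq, List.all_eq_true] at hl
  obtain ⟨hcg, -, hLB⟩ := hl
  have hlet : ∀ x < 5, x ≠ 2 → ∃ P, Reads K sideB91 pB (a x).1 P ∧ Reads K' sideB91 pB' (a x).2 P := by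
    intro x hx hx2
    by_cases h4 : x = 4
    · subst h4
      exact ⟨(glue91.f0, glue91.bm), by simpa only [a, letters, if_neg (by norm_num : ¬ (4 : ℕ) < 4)] using g.readB,
        by simpa only [a, letters, if_neg (by norm_num : ¬ (4 : ℕ) < 4)] using g'.readB⟩
    · obtain ⟨e, he, hex⟩ : ∃ e ∈ glue91.letB, e.getD 0 0 = x := by
        have hh : ∀ x < 4, x ≠ 2 → ∃ e ∈ glue91.letB, e.getD 0 0 = x := by decide
        exact hh x (by omega) hx2
      obtain ⟨hw, -⟩ := hLB e he
      rw [hex] at hw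
      refine ⟨kPair sideB91 (e.getD 1 0) (e.getD 2 0), ?_, ?_⟩
      · simp only [a, letters, if_pos (show x < 4 by omega)]
        exact Reads.code hB g.compB hw
      · simp only [a, letters, if_pos (show x < 4 by omega)]
        exact Reads.code hB' g'.compB hw
  let N : Subgroup (G × H) := closure {p | ∃ x < 5, x ≠ 2 ∧ p = a x}
  have hgraph : ∀ p ∈ N, ∃ P, Reads K sideB91 pB p.1 P ∧ Reads K' sideB91 pB' p.2 P := by
    intro p hp
    induction hp using closure_induction_right with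
    | one => exact ⟨_, Reads.one hB g.compB, Reads.one hB' g'.compB⟩
    | mul_right p _ y hy ih =>
      obtain ⟨P, h1, h2⟩ := ih
      obtain ⟨x, hx, hx2, rfl⟩ := hy
      obtain ⟨Q, q1, q2⟩ := hlet x hx hx2
      exact ⟨_, Reads.mul hB g.compB h1 q1, Reads.mul hB' g'.compB h2 q2⟩
    | mul_inv_cancel p _ y hy ih =>
      obtain ⟨P, h1, h2⟩ := ih
      obtain ⟨x, hx, hx2, rfl⟩ := hy
      rw [inv_eq_of_mul_eq_one_right (inv x hx)]
      obtain ⟨Q, q1, q2⟩ := hlet x hx hx2
      exact ⟨_, Reads.mul hB g.compB h1 q1, Reads.mul hB' g'.compB h2 q2⟩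
  have hker : ∀ p ∈ N, p.1 = 1 → p.2 = 1 := by
    intro p hp h1
    obtain ⟨⟨v, A⟩, ⟨hv, -, l, hl, e⟩, -, -, l', hl', e'⟩ := hgraph p hp
    rw [h1] at e
    have hle' : l = eEl K sideB91 v := by
      rw [← hB.e_inv hv]; exact eq_inv_of_mul_eq_one_right e.symm
    have hfix : ∀ u < 64, apM A u = u := fun u hu => by
      refine hB.e_inj (apM_lt _ _) hu ?_
      rw [← hl.1 u hu, hle', hB.e_mul hv hu, hB.e_inv hv, hB.e_mul (xor_lt64 hv hu) hv]
      congr 1
      show (v ^^^ u) ^^^ v = u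
      rw [Nat.xor_comm v u, Nat.xor_assoc, Nat.xor_self, Nat.xor_zero]
    have hl1 : IsLift K sideB91 pB 1 A := ⟨fun u hu => by rw [hfix u hu]; group, Or.inl (by group)⟩
    have hl1' : IsLift K' sideB91 pB' 1 A := ⟨fun u hu => by rw [hfix u hu]; group, Or.inl (by group)⟩
    have hv0 : v = 0 := by
      refine hB.e_inj hv (by norm_num) ?_
      rw [← hle', hB.lift_unique g.compB.acts g.compB.cube hl hl1, hB.e_zero]
    rw [e', hB'.lift_unique g'.compB.acts g'.compB.cube hl' hl1', mul_one]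
    show eEl K' sideB91 v = 1
    rw [hv0, hB'.e_zero]
  obtain ⟨hN, h2⟩ := n91_card g hA hB
  have hmap : N.map (MonoidHom.fst G H) = nSub K m := by
    rw [MonoidHom.map_closure]
    refine congrArg Subgroup.closure (Set.ext fun z => ⟨?_, ?_⟩)
    · rintro ⟨_, ⟨x, hx, hx2, rfl⟩, rfl⟩
      exact ⟨x, hx, hx2, rfl⟩
    · rintro ⟨x, hx, hx2, rfl⟩
      exact ⟨a x, ⟨x, hx, hx2, rfl⟩, rfl⟩
  have hNc : Nat.card N = 138240 := by
    rw [← hN, ← hmap]
    refine Nat.card_eq_of_bijective (fun p : N => ⟨(p : G × H).1, ⟨p, p.2, rfl⟩⟩)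
      ⟨fun p q e => ?_, fun z => ?_⟩
    · have e1 : (p : G × H).1 = (q : G × H).1 := congrArg Subtype.val e
      have h := hker _ (mul_mem p.2 (inv_mem q.2)) (by rw [Prod.fst_mul, Prod.fst_inv, e1, mul_inv_cancel])
      rw [Prod.snd_mul, Prod.snd_inv, mul_inv_eq_one] at h
      exact Subtype.ext (Prod.ext e1 h)
    · obtain ⟨p, hp, e⟩ := z.2
      exact ⟨⟨p, hp⟩, Subtype.ext e⟩
  have hn : a 2 ∉ N := fun h => h2 (hmap ▸ ⟨a 2, h, rfl⟩)
  have hD := enum_m24 a inv hrel N rfl hNc hn
  exact nonempty_equiv_of_pairs (a := letters K glue91 m) (b := letters K' glue91 m') htop htop'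
    (hD.trans (order_91 hS hm).symm) (hD.trans (order_91 hS' hm').symm)

/-- Two groups with a pattern of `M24`. -/
theorem iso_mathieu [IsSimpleGroup G] [IsSimpleGroup H] (K : Coord t 0) (K' : Coord t' 0)
    (hS : ∃ Q : Sylow 2 G, (Q : Subgroup G) ≤ centralizer {t}) (hm : K.mask = 59 ∨ K.mask = 91)
    (hS' : ∃ Q : Sylow 2 H, (Q : Subgroup H) ≤ centralizer {t'}) (hm' : K'.mask = 59 ∨ K'.mask = 91) :
    Nonempty (G ≃* H) := by
  rcases hm with hm | hm <;> rcases hm' with hm' | hm'
  · exact iso_91 (K := K.sigma) (K' := K'.sigma) hS (K.sigma_mask_59 hm) hS' (K'.sigma_mask_59 hm')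
  · exact iso_91 (K := K.sigma) hS (K.sigma_mask_59 hm) hS' hm'
  · exact iso_91 (K' := K'.sigma) hS hm hS' (K'.sigma_mask_59 hm')
  · exact iso_91 hS hm hS' hm'

end CfsgLib.Recog.HeldTri
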