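import Cfsg.Agent.Lib.Recog.HeldTri.NonSimpleAffine
import Cfsg.Agent.Lib.Recog.HeldTri.ByOrder

/-!
The stabiliser of a vector in `SL(5, 2)` is the affine group `2^4:L4(2)` (owner: helper28).
-/

set_option autoImplicit false
set_option linter.style.haveILetI false

namespace CfsgLib.Recog.HeldTri

open Subgroup
open CfsgLib.Recog.Held

/-- The transvection and a conjugate by a matrix fixing the first vector. -/
theorem transvection_facts :
    (Matrix.transvection (0 : Fin 5) 1 (1 : ZMod 2)).mulVec (Pi.single 0 1) = Pi.single 0 1 ∧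
    (Matrix.transvection (1 : Fin 5) 2 (1 : ZMod 2)).mulVec (Pi.single 0 1) = Pi.single 0 1 ∧
    (Matrix.transvection (2 : Fin 5) 0 (1 : ZMod 2)).mulVec (Pi.single 0 1) ≠ Pi.single 0 1 ∧
    Matrix.transvection (1 : Fin 5) 2 (1 : ZMod 2) * Matrix.transvection 1 2 1 = 1 ∧
    Matrix.transvection (1 : Fin 5) 2 (1 : ZMod 2) * Matrix.transvection 0 1 1 * Matrix.transvection 1 2 1 * Matrix.transvection 0 1 1 =
      Matrix.transvection 0 1 1 * (Matrix.transvection (1 : Fin 5) 2 (1 : ZMod 2) * Matrix.transvection 0 1 1 * Matrix.transvection 1 2 1) ∧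
    Matrix.transvection (1 : Fin 5) 2 (1 : ZMod 2) * Matrix.transvection 0 1 1 * Matrix.transvection 1 2 1 ≠
      Matrix.transvection 0 1 1 := by
  simp only [Matrix.transvection]
  decide +kernel

theorem exists_vectorStab (s : Matrix.SpecialLinearGroup (Fin 5) (ZMod 2))
    (hs : (s : Matrix (Fin 5) (Fin 5) (ZMod 2)) = Matrix.transvection 0 1 1) :
    ∃ v : Fin 5 → ZMod 2, v ≠ 0 ∧
      Nonempty (AffineSixteen ≃* MulAction.stabilizer (Matrix.SpecialLinearGroup (Fin 5) (ZMod 2)) v) := by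
  obtain ⟨hfix, hkfix, hmove, hkk, hcomm, hne⟩ := transvection_facts
  set v : Fin 5 → ZMod 2 := Pi.single 0 1 with hv
  refine ⟨v, Pi.single_ne_zero_iff.2 one_ne_zero, ?_⟩
  set S := MulAction.stabilizer (Matrix.SpecialLinearGroup (Fin 5) (ZMod 2)) v with hS
  have hmem : ∀ M : Matrix.SpecialLinearGroup (Fin 5) (ZMod 2),
      M ∈ S ↔ (M : Matrix (Fin 5) (Fin 5) (ZMod 2)).mulVec v = v := fun M => Iff.rfl
  let K := slCoord s hs
  have hsS : s ∈ S := (hmem s).2 (by rw [hs]; exact hfix)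
  -- the centraliser of `s` fixes `v`
  have hcent : ∀ M, M * s = s * M → M ∈ S := by
    intro M hM
    let a : Fin 5 → ZMod 2 := Pi.single 1 1
    have hsa : ∀ w : Fin 5 → ZMod 2,
        (s : Matrix (Fin 5) (Fin 5) (ZMod 2)).mulVec w = w + w 1 • v := by
      intro w
      rw [hs, Matrix.transvection, Matrix.add_mulVec, Matrix.one_mulVec, Matrix.single_mulVec]
      congr 1
      funext j
      simp [hv, Pi.single_apply, Function.update_apply]
    have h : (s : Matrix (Fin 5) (Fin 5) (ZMod 2)).mulVec ((M : Matrix (Fin 5) (Fin 5) (ZMod 2)).mulVec a) =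
        (M : Matrix (Fin 5) (Fin 5) (ZMod 2)).mulVec ((s : Matrix (Fin 5) (Fin 5) (ZMod 2)).mulVec a) := by
      rw [Matrix.mulVec_mulVec, Matrix.mulVec_mulVec, ← Matrix.SpecialLinearGroup.coe_mul, ← hM,
        Matrix.SpecialLinearGroup.coe_mul]
    rw [hsa, hsa, show a 1 = 1 from Pi.single_eq_same _ _, one_smul, Matrix.mulVec_add, add_right_inj] at h
    rcases (by decide : ∀ z : ZMod 2, z = 0 ∨ z = 1) ((M : Matrix (Fin 5) (Fin 5) (ZMod 2)).mulVec a 1) with e | e
    · rw [e, zero_smul] at h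
      have h0 : ((M⁻¹ * M : Matrix.SpecialLinearGroup (Fin 5) (ZMod 2)) : Matrix (Fin 5) (Fin 5) (ZMod 2)).mulVec v = 0 := by
        rw [Matrix.SpecialLinearGroup.coe_mul, ← Matrix.mulVec_mulVec, ← h, Matrix.mulVec_zero]
      rw [inv_mul_cancel, Matrix.SpecialLinearGroup.coe_one, Matrix.one_mulVec, hv] at h0
      exact absurd h0 (Pi.single_ne_zero_iff.2 one_ne_zero)
    · rw [e, one_smul] at h
      exact (hmem M).2 h.symm
  -- coordinates in the stabiliser
  let s' : S := ⟨s, hsS⟩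
  let e' : centralizer ({s'} : Set S) ≃* centralizer ({s} : Set (Matrix.SpecialLinearGroup (Fin 5) (ZMod 2))) :=
    { toFun := fun g => ⟨g.1.1, mem_centralizer_singleton_iff.2
        (congrArg Subtype.val (mem_centralizer_singleton_iff.1 g.2))⟩
      invFun := fun g => ⟨⟨g.1, hcent _ (mem_centralizer_singleton_iff.1 g.2)⟩,
        mem_centralizer_singleton_iff.2 (Subtype.ext (mem_centralizer_singleton_iff.1 g.2))⟩
      left_inv := fun g => rfl
      right_inv := fun g => rfl
      map_mul' := fun g h => rfl }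
  have hs1 : s' ≠ 1 := fun e => K.ne_one_t (by norm_num) (congrArg Subtype.val e)
  let K' := K.pull hs1 e'
  let k : Matrix.SpecialLinearGroup (Fin 5) (ZMod 2) :=
    ⟨Matrix.transvection 1 2 1, Matrix.det_transvection_of_ne 1 2 (by decide) 1⟩
  have hk : k⁻¹ = k := inv_eq_of_mul_eq_one_right (Subtype.ext hkk)
  let k' : S := ⟨k, (hmem k).2 hkfix⟩
  have hnot : ∃ g : S, Commute (g * s' * g⁻¹) s' ∧ g * s' * g⁻¹ ≠ s' := by
    have hval : ((k' * s' * k'⁻¹ : S) : Matrix.SpecialLinearGroup (Fin 5) (ZMod 2)) = k * s * k := by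
      show k * s * k⁻¹ = _
      rw [hk]
    refine ⟨k', Subtype.ext (Subtype.ext ?_), fun e => hne ?_⟩
    · show ((((k' * s' * k'⁻¹ : S) : Matrix.SpecialLinearGroup (Fin 5) (ZMod 2)) * s :
          Matrix.SpecialLinearGroup (Fin 5) (ZMod 2)) : Matrix (Fin 5) (Fin 5) (ZMod 2)) =
        ((s * ((k' * s' * k'⁻¹ : S) : Matrix.SpecialLinearGroup (Fin 5) (ZMod 2)) :
          Matrix.SpecialLinearGroup (Fin 5) (ZMod 2)) : Matrix (Fin 5) (Fin 5) (ZMod 2))
      rw [hval]
      simp only [Matrix.SpecialLinearGroup.coe_mul, hs]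
      exact hcomm
    · have := congrArg (fun g : S => (g.1 : Matrix (Fin 5) (Fin 5) (ZMod 2))) e
      simp only [hval, Matrix.SpecialLinearGroup.coe_mul, s', hs] at this
      exact this
  rcases mask_cases K' hnot with h | h | h
  · exact affine_of_mask K' (Or.inl h)
  · exact affine_of_mask K' (Or.inr h)
  · exfalso
    haveI := isSimple_of_good K' h
    have hlt : Nat.card S < 9999360 := by
      rw [← card_SL52]
      refine lt_of_le_of_ne (Nat.le_of_dvd Nat.card_pos (card_subgroup_dvd_card S)) fun e => hmove ?_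
      exact (hmem ⟨Matrix.transvection 2 0 1, Matrix.det_transvection_of_ne 2 0 (by decide) 1⟩).1
        (eq_top_of_card_eq S e ▸ mem_top _)
    rcases order_cases K' with ⟨-, h⟩ | ⟨-, h⟩ | ⟨-, h⟩ <;> omega

end CfsgLib.Recog.HeldTri
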